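import Groth.Agent.H16Derived.KFlat.Basic

/-!
# The total complex with a single object on the right
-/

set_option autoImplicit false
set_option linter.style.haveILetI false

universe v v' v'' u u' u''

open CategoryTheory CategoryTheory.Limits

namespace Groth.Agent.H16Derived.DerCompLib

variable {A : Type u} [Category.{v} A] [Abelian A] {B : Type u'} [Category.{v'} B] [Abelian B]
  {C : Type u''} [Category.{v''} C] [Abelian C] [HasCountableCoproducts C]
  (F : A ⥤ B ⥤ C) [F.Additive] [∀ a, (F.obj a).Additive] [∀ b, (F.flip.obj b).Additive] (M : B)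

set_option quotPrecheck false in
local notation "W" => (HomologicalComplex.single B (ComplexShape.up ℤ) 0).obj M

/-- `F(L, M) ⟶ Tot F(L, M[0])`. -/
noncomputable def singleRightHom (L : CochainComplex A ℤ) :
    ((F.flip.obj M).mapHomologicalComplex (ComplexShape.up ℤ)).obj L ⟶ (KFlat.tot F L).obj W where
  f p := (F.obj (L.X p)).map (HomologicalComplex.singleObjXSelf (ComplexShape.up ℤ) 0 M).inv ≫
    HomologicalComplex.ιMapBifunctor L W F (ComplexShape.up ℤ) p 0 p (add_zero p)
  comm' p p' hp := by
    obtain rfl : p + 1 = p' := hp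
    change ((F.obj (L.X p)).map _ ≫ HomologicalComplex.ιMapBifunctor L W F (ComplexShape.up ℤ) p 0 p (add_zero p)) ≫
      (HomologicalComplex.mapBifunctor L W F (ComplexShape.up ℤ)).d p (p + 1) =
      (F.map (L.d p (p + 1))).app M ≫ _
    rw [Category.assoc, HomologicalComplex.mapBifunctor.d_eq]
    erw [Preadditive.comp_add]
    rw [HomologicalComplex.mapBifunctor.ι_D₁, HomologicalComplex.mapBifunctor.ι_D₂,
      HomologicalComplex.mapBifunctor.d₁_eq L W F (ComplexShape.up ℤ)
        (show (ComplexShape.up ℤ).Rel p (p + 1) from rfl) 0 (p + 1) (add_zero _),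
      HomologicalComplex.mapBifunctor.d₂_eq' L W F _ p
        (show (ComplexShape.up ℤ).Rel 0 1 by simp) (p + 1),
      show (W).d 0 1 = 0 from HomologicalComplex.single_obj_d _ _ _ _ _, Functor.map_zero,
      zero_comp, smul_zero, add_zero,
      show ComplexShape.ε₁ (ComplexShape.up ℤ) (ComplexShape.up ℤ) (ComplexShape.up ℤ) (p, (0 : ℤ)) = 1 from rfl,
      one_smul]
    exact (Category.assoc _ _ _).symm.trans ((congrArg (· ≫ _) ((F.map (L.d p (p + 1))).naturality _)).trans
      (Category.assoc _ _ _))

theorem isIso_singleRightHom (L : CochainComplex A ℤ) : IsIso (singleRightHom F M L) := by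
  have : ∀ q, IsIso ((singleRightHom F M L).f q) := fun q => by
    let r : ((KFlat.tot F L).obj W).X q ⟶ (F.obj (L.X q)).obj M :=
      HomologicalComplex.mapBifunctorDesc fun p' q' h' =>
        if hq : q' = 0 then
          (F.obj (L.X p')).map (eqToHom (by rw [hq]) ≫ (HomologicalComplex.singleObjXSelf (ComplexShape.up ℤ) 0 M).hom) ≫
            eqToHom (by
              have h2 : p' + q' = q := h'
              rw [show p' = q by omega])
        else 0
    have hι : HomologicalComplex.ιMapBifunctor L W F (ComplexShape.up ℤ) q 0 q (add_zero q) ≫ r =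
        (F.obj (L.X q)).map (HomologicalComplex.singleObjXSelf (ComplexShape.up ℤ) 0 M).hom := by
      refine (HomologicalComplex.ι_mapBifunctorDesc _ q 0 (add_zero q)).trans ?_
      rw [dif_pos rfl]
      simp
    refine ⟨r, ?_, ?_⟩
    · refine (Category.assoc _ _ _).trans ((congrArg (_ ≫ ·) hι).trans ?_)
      exact ((F.obj (L.X q)).map_comp _ _).symm.trans
        ((congrArg (F.obj (L.X q)).map (Iso.inv_hom_id _)).trans ((F.obj (L.X q)).map_id _))
    · refine HomologicalComplex.mapBifunctor.hom_ext fun p' q' h' => ?_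
      by_cases hq : q' = 0
      · subst hq
        obtain rfl : p' = q := by
          have h2 : p' + (0 : ℤ) = q := h'
          omega
        refine (Category.assoc _ _ _).symm.trans ((congrArg (· ≫ (singleRightHom F M L).f p') hι).trans ?_)
        refine ((Category.assoc _ _ _).symm.trans ((congrArg (· ≫ _) ?_).trans (Category.id_comp _))).trans
          (Category.comp_id _).symm
        exact ((F.obj (L.X p')).map_comp _ _).symm.trans
          ((congrArg (F.obj (L.X p')).map (Iso.hom_inv_id _)).trans ((F.obj (L.X p')).map_id _))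
      · exact (((F.obj (L.X p')).map_isZero (HomologicalComplex.isZero_single_obj_X _ 0 M q' hq))).eq_of_src _ _
  exact HomologicalComplex.Hom.isIso_of_components _

/-- `F(-, M) ≅ Tot F(-, M[0])`. -/
noncomputable def singleRightIso :
    (F.flip.obj M).mapHomologicalComplex (ComplexShape.up ℤ) ≅ F.map₂CochainComplex.flip.obj W :=
  NatIso.ofComponents (fun L => @asIso _ _ _ _ (singleRightHom F M L) (isIso_singleRightHom F M L))
    fun {L L'} φ => by
      refine HomologicalComplex.hom_ext _ _ fun p => ?_
      show (F.map (φ.f p)).app M ≫ (F.obj (L'.X p)).map _ ≫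
          HomologicalComplex.ιMapBifunctor L' W F (ComplexShape.up ℤ) p 0 p (add_zero p) =
        ((F.obj (L.X p)).map _ ≫ HomologicalComplex.ιMapBifunctor L W F (ComplexShape.up ℤ) p 0 p (add_zero p)) ≫
          ((F.map₂CochainComplex.map φ).app W).f p
      have h : HomologicalComplex.ιMapBifunctor L W F (ComplexShape.up ℤ) p 0 p (add_zero p) ≫
          ((F.map₂CochainComplex.map φ).app W).f p =
          (F.map (φ.f p)).app ((W).X 0) ≫ (F.obj (L'.X p)).map ((𝟙 W : W ⟶ W).f 0) ≫
            HomologicalComplex.ιMapBifunctor L' W F (ComplexShape.up ℤ) p 0 p (add_zero p) :=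
        HomologicalComplex.ι_mapBifunctorMap φ (𝟙 W) F (ComplexShape.up ℤ) p 0 p (add_zero p)
      refine ((Category.assoc _ _ _).trans ((congrArg (_ ≫ ·) h).trans ?_)).symm
      refine (congrArg (_ ≫ ·) (congrArg ((F.map (φ.f p)).app _ ≫ ·) ((congrArg (· ≫ _) ((F.obj (L'.X p)).map_id _)).trans
        (Category.id_comp _)))).trans ?_
      exact (Category.assoc _ _ _).symm.trans ((congrArg (· ≫ _) ((F.map (φ.f p)).naturality _)).trans (Category.assoc _ _ _))

end Groth.Agent.H16Derived.DerCompLib
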