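import Groth.Agent.H16Derived.DerComp.Push
import Mathlib.Algebra.Homology.DerivedCategory.Linear
import Mathlib.CategoryTheory.Limits.Shapes.Products

/-!
# Completeness as a vanishing of maps to a derived limit
-/

set_option autoImplicit false
set_option linter.style.haveILetI false

universe w v u r t

open CategoryTheory CategoryTheory.Limits CategoryTheory.Pretriangulated

namespace Groth.Agent.H16Derived.DerCompLib

section Tri

variable {T : Type*} [Category T] [HasShift T ℤ] [Preadditive T] [HasZeroObject T]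
  [∀ n : ℤ, (shiftFunctor T n).Additive] [Pretriangulated T]

/-- A triangle whose first object receives no maps. -/
theorem subsingleton_obj₁_iff_bijective (D : Pretriangulated.Triangle T) (hD : D ∈ distTriang T) (X : T) :
    (∀ j : ℤ, Subsingleton (X⟦j⟧ ⟶ D.obj₁)) ↔
      ∀ j : ℤ, Function.Bijective fun x : X⟦j⟧ ⟶ D.obj₂ => x ≫ D.mor₂ := by
  have e : ∀ (j : ℤ) {P : T}, (X⟦j⟧ ⟶ P⟦(1 : ℤ)⟧) ≃ (X⟦j - 1⟧ ⟶ P) := fun j {P} =>
    ((Iso.homCongr ((shiftFunctorAdd' T (j - 1) 1 j (by omega)).app X) (Iso.refl (P⟦(1 : ℤ)⟧)))).trans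
      (Functor.FullyFaithful.ofFullyFaithful (shiftFunctor T (1 : ℤ))).homEquiv.symm
  constructor
  · intro h j
    refine ⟨fun x y hxy => ?_, fun z => ?_⟩
    · refine sub_eq_zero.1 ?_
      obtain ⟨g, hg⟩ := D.coyoneda_exact₂ hD (x - y) (by
        rw [Preadditive.sub_comp]; exact sub_eq_zero.2 hxy)
      haveI := h j
      rw [hg, Subsingleton.elim g 0, zero_comp]
    · haveI : Subsingleton (X⟦j⟧ ⟶ D.obj₁⟦(1 : ℤ)⟧) :=
        haveI := h (j - 1)
        (e j).subsingleton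
      obtain ⟨g, hg⟩ := D.coyoneda_exact₃ hD z (Subsingleton.elim _ _)
      exact ⟨g, hg.symm⟩
  · intro h j
    suffices ∀ j, Subsingleton (X⟦j⟧ ⟶ D.obj₁⟦(1 : ℤ)⟧) by
      haveI := this (j + 1)
      haveI : Subsingleton (X⟦j + 1 - 1⟧ ⟶ D.obj₁) := (e (j + 1)).symm.subsingleton
      rwa [show j + 1 - 1 = j by omega] at this
    intro j
    refine subsingleton_of_forall_eq 0 fun x => ?_
    have hy : x ≫ D.mor₁⟦(1 : ℤ)⟧' = 0 := by
      obtain ⟨y, hy⟩ : ∃ y : X⟦j - 1⟧ ⟶ D.obj₂, y⟦(1 : ℤ)⟧' =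
          ((shiftFunctorAdd' T (j - 1) 1 j (by omega)).app X).inv ≫ x ≫ D.mor₁⟦(1 : ℤ)⟧' :=
        (shiftFunctor T (1 : ℤ)).map_surjective _
      have h0 : y ≫ D.mor₂ = 0 := by
        apply (shiftFunctor T (1 : ℤ)).map_injective
        rw [Functor.map_comp, hy, Functor.map_zero, Category.assoc, Category.assoc, ← Functor.map_comp,
          comp_distTriang_mor_zero₁₂ D hD, Functor.map_zero, comp_zero, comp_zero]
      have : y = 0 := (h (j - 1)).1 (h0.trans zero_comp.symm)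
      rw [this, Functor.map_zero] at hy
      exact (cancel_epi ((shiftFunctorAdd' T (j - 1) 1 j (by omega)).app X).inv).1
        (hy.symm.trans comp_zero.symm)
    obtain ⟨g, rfl⟩ := D.coyoneda_exact₁ hD x hy
    obtain ⟨g', rfl⟩ := (h j).2 g
    rw [Category.assoc, comp_distTriang_mor_zero₂₃ D hD, comp_zero]

end Tri

section Fibre

variable {R : Type r} [CommRing R] {A : Type u} [Category.{v} A] [Abelian A] [Linear R A]
  [HasDerivedCategory.{w} A]

lemma comp_smul_id_iff (r₀ : R) (X K : DerivedCategory A) (n : ℤ) :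
    Comp (Preadditive.leftComp (K⟦n⟧) (r₀ • 𝟙 X)) ↔
      Comp (Preadditive.rightComp (X⟦-n⟧) (r₀ • 𝟙 K)) := by
  refine comp_iff_of_equiv (shAdd X K n).symm fun x => ?_
  obtain ⟨y, rfl⟩ := (shAdd X K n).surjective x
  show (shAdd X K n).symm ((r₀ • 𝟙 X) ≫ shAdd X K n y) = (shAdd X K n).symm (shAdd X K n y) ≫ (r₀ • 𝟙 K)
  rw [← shAdd_comp, AddEquiv.symm_apply_apply, AddEquiv.symm_apply_apply, Functor.map_smul,
    CategoryTheory.Functor.map_id, Linear.smul_comp, Category.id_comp, Linear.comp_smul, Category.comp_id]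

variable (r₀ : R) (K : DerivedCategory A) [HasProduct fun _ : ℕ => K]

/-- The map defining `T(K, r)`. -/
noncomputable def rlimMap : (∏ᶜ fun _ : ℕ => K) ⟶ ∏ᶜ fun _ : ℕ => K :=
  Pi.lift fun n => Pi.π (fun _ : ℕ => K) n - Pi.π (fun _ : ℕ => K) (n + 1) ≫ (r₀ • 𝟙 K)

lemma comp_rightComp_iff (Z : DerivedCategory A) :
    Comp (Preadditive.rightComp Z (r₀ • 𝟙 K)) ↔
      Function.Bijective fun x : Z ⟶ ∏ᶜ fun _ : ℕ => K => x ≫ rlimMap r₀ K := by
  let E : (Z ⟶ ∏ᶜ fun _ : ℕ => K) ≃ (ℕ → (Z ⟶ K)) :=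
    { toFun := fun x i => x ≫ Pi.π _ i
      invFun := fun f => Pi.lift f
      left_inv := fun x => Pi.hom_ext _ _ fun i => Pi.lift_π _ _
      right_inv := fun f => funext fun i => Pi.lift_π _ _ }
  have h : (fun x => E (x ≫ rlimMap r₀ K)) = shiftSub (Preadditive.rightComp Z (r₀ • 𝟙 K)) ∘ E := by
    funext x i
    show (x ≫ rlimMap r₀ K) ≫ Pi.π _ i = x ≫ Pi.π _ i - (x ≫ Pi.π _ (i + 1)) ≫ (r₀ • 𝟙 K)
    rw [rlimMap, Category.assoc, Pi.lift_π, Preadditive.comp_sub, Category.assoc]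
  show Function.Bijective _ ↔ _
  rw [← E.bijective.of_comp_iff' (fun x : Z ⟶ ∏ᶜ fun _ : ℕ => K => x ≫ rlimMap r₀ K),
    ← Function.Bijective.of_comp_iff _ E.bijective]
  exact (Iff.of_eq (congrArg Function.Bijective h)).symm

variable {r₀ K}

/-- Completeness of the maps out of any object through a derived limit. -/
theorem comp_smul_iff_of_triangle {L : DerivedCategory A} {a : L ⟶ ∏ᶜ fun _ : ℕ => K}
    {c : (∏ᶜ fun _ : ℕ => K) ⟶ L⟦(1 : ℤ)⟧} (hT : Triangle.mk a (rlimMap r₀ K) c ∈ distTriang (DerivedCategory A))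
    (X : DerivedCategory A) :
    (∀ n : ℤ, Comp (Preadditive.leftComp (K⟦n⟧) (r₀ • 𝟙 X))) ↔ ∀ j : ℤ, Subsingleton (X⟦j⟧ ⟶ L) := by
  refine Iff.trans ?_ (subsingleton_obj₁_iff_bijective _ hT X).symm
  refine ⟨fun h j => ?_, fun h n => (comp_smul_id_iff r₀ _ K n).2 ((comp_rightComp_iff r₀ K _).2 (h (-n)))⟩
  have := (comp_rightComp_iff r₀ K _).1 ((comp_smul_id_iff r₀ X K (-j)).1 (h (-j)))
  rw [neg_neg] at this
  exact this

/-- Completeness tests by maps to a derived limit. -/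
theorem compFor_smul_iff_of_triangle {L : DerivedCategory A} {a : L ⟶ ∏ᶜ fun _ : ℕ => K}
    {c : (∏ᶜ fun _ : ℕ => K) ⟶ L⟦(1 : ℤ)⟧} (hT : Triangle.mk a (rlimMap r₀ K) c ∈ distTriang (DerivedCategory A))
    (G : A) : CompFor G (r₀ • 𝟙 G) K ↔ ∀ j : ℤ, Subsingleton (((S0 (A := A)).obj G)⟦j⟧ ⟶ L) := by
  refine Iff.trans ?_ (comp_smul_iff_of_triangle hT _)
  show (∀ n : ℤ, Comp (Preadditive.leftComp (K⟦n⟧) ((S0 (A := A)).map (r₀ • 𝟙 G)))) ↔ _
  rw [Functor.map_smul, CategoryTheory.Functor.map_id]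

variable (r₀ K)

theorem exists_fibre : ∃ (L : DerivedCategory A) (a : L ⟶ ∏ᶜ fun _ : ℕ => K)
    (c : (∏ᶜ fun _ : ℕ => K) ⟶ L⟦(1 : ℤ)⟧), Triangle.mk a (rlimMap r₀ K) c ∈ distTriang (DerivedCategory A) :=
  distinguished_cocone_triangle₁ (rlimMap r₀ K)

end Fibre

section Sep

variable {A : Type u} [Category.{v} A] [Abelian A] [IsGrothendieckAbelian.{v} A] [HasDerivedCategory.{w} A]
  {ι : Type t} {G : ι → A}

/-- An object with no maps from a separating family and its shifts is zero. -/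
theorem isZero_of_separating
    (hG : ∀ {X Y : A} (φ : X ⟶ Y), (∀ i (h : G i ⟶ X), h ≫ φ = 0) → φ = 0) (E : DerivedCategory A)
    (hE : ∀ i (j : ℤ), Subsingleton (((S0 (A := A)).obj (G i))⟦j⟧ ⟶ E)) : IsZero E := by
  obtain ⟨I, hI, ⟨e⟩⟩ := KInjRes.exists_kInjective_iso E
  refine IsZero.of_iso ?_ e
  suffices hac : I.Acyclic by
    haveI : CochainComplex.IsKInjective I := hI
    rw [IsZero.iff_id_eq_zero, ← DerivedCategory.Q.map_id, ← DerivedCategory.Q.map_zero]
    exact DerivedCategory.Q_map_eq_of_homotopy A (CochainComplex.IsKInjective.homotopyZero (𝟙 I) hac)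
  intro n
  have hn : ∀ i, Subsingleton ((DerivedCategory.singleFunctor A n).obj (G i) ⟶ DerivedCategory.Q.obj I) := fun i => by
    haveI : Subsingleton (((S0 (A := A)).obj (G i))⟦-n⟧ ⟶ E) := hE i (-n)
    let σ : ((S0 (A := A)).obj (G i))⟦-n⟧ ≅ (DerivedCategory.singleFunctor A n).obj (G i) :=
      ((DerivedCategory.singleFunctors A).shiftIso (-n) n 0 (by omega)).app (G i)
    exact ((σ.homCongr e).symm).subsingleton
  rw [HomologicalComplex.exactAt_iff_isZero_homology, IsZero.iff_id_eq_zero, ← cancel_epi (I.homologyπ n)]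
  rw [Category.comp_id, comp_zero]
  refine hG _ fun i h => ?_
  let g : (HomologicalComplex.single A (ComplexShape.up ℤ) n).obj (G i) ⟶ I :=
    HomologicalComplex.mkHomFromSingle (h ≫ I.iCycles n) (fun k _ => by simp)
  haveI : Subsingleton (DerivedCategory.Q.obj ((HomologicalComplex.single A (ComplexShape.up ℤ) n).obj (G i)) ⟶
      DerivedCategory.Q.obj I) :=
    haveI := hn i
    (Iso.homCongr ((DerivedCategory.singleFunctorIsoCompQ A n).app (G i)).symm (Iso.refl _)).subsingleton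
  obtain ⟨H⟩ := KInjRes.nonempty_homotopy_of_Q_map_eq (Subsingleton.elim (DerivedCategory.Q.map g) (DerivedCategory.Q.map 0))
  rw [sub_zero] at H
  have hg := H.homologyMap_eq n
  rw [HomologicalComplex.homologyMap_zero] at hg
  have hc : HomologicalComplex.cyclesMap g n =
      (HomologicalComplex.singleObjCyclesSelfIso (ComplexShape.up ℤ) n (G i)).hom ≫ h := by
    rw [← cancel_mono (I.iCycles n)]
    simp [g, HomologicalComplex.singleObjCyclesSelfIso_hom]
  have hz := HomologicalComplex.homologyπ_naturality g n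
  rw [hg, comp_zero, hc, Category.assoc] at hz
  exact (cancel_epi _).1 (hz.symm.trans comp_zero.symm)

end Sep

end Groth.Agent.H16Derived.DerCompLib
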