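import Groth.Agent.H16Derived.DerComp.Free
import Groth.Agent.H15Site.FreePush

/-!
# Completeness and direct images
-/

set_option autoImplicit false
set_option linter.style.haveILetI false

open CategoryTheory CategoryTheory.Limits CategoryTheory.Functor CategoryTheory.Pretriangulated

namespace Groth.Agent.H16Derived.DerCompLib

open H16Derived H15Site H15Site.FlatAdjD H15Site.AdaptedAdj

universe w w' v u u'

section

variable {A : Type u} [Category.{v} A] [Abelian A] [HasDerivedCategory.{w} A]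
  {B : Type u'} [Category.{v} B] [Abelian B] [HasDerivedCategory.{w'} B] [IsGrothendieckAbelian.{v} B]
  {G : A ⥤ B} [G.Additive] {F : B ⥤ A} [F.Additive]
  {P : ObjectProperty (CochainComplex A ℤ)} [P.IsStableUnderShift ℤ]

/-- The left adjoint of the right derived functor, computed by adapted complexes. -/
theorem exists_leftAdjoint_natural (adj : G ⊣ F) (h : LeftDerTri.Adapted G P)
    [(toD F).HasRightDerivedFunctor (HomotopyCategory.quasiIso B (ComplexShape.up ℤ))] :
    ∃ (L : DerivedCategory A ⥤ DerivedCategory B) (_ : L.CommShift ℤ) (_ : L.IsTriangulated),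
      Nonempty ((P.ι ⋙ DerivedCategory.Q) ⋙ L ≅
        P.ι ⋙ (G.mapHomologicalComplex (ComplexShape.up ℤ) ⋙ DerivedCategory.Q)) ∧
      Nonempty (L ⊣ (toD F).totalRightDerived DerivedCategory.Qh
        (HomotopyCategory.quasiIso B (ComplexShape.up ℤ))) := by
  haveI := hasLeftDerived h
  haveI : (HomotopyCategory.quotient A (ComplexShape.up ℤ) ⋙
      DerivedCategory.Qh (C := A)).IsLocalization (HomologicalComplex.quasiIso A (ComplexShape.up ℤ)) :=
    Functor.IsLocalization.of_iso _ (DerivedCategory.quotientCompQhIso A).symm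
  let W₁ := HomotopyCategory.quasiIso A (ComplexShape.up ℤ)
  let W₂ := HomotopyCategory.quasiIso B (ComplexShape.up ℤ)
  let L := (toDL G).totalLeftDerived DerivedCategory.Qh W₁
  let α := (toDL G).totalLeftDerivedCounit DerivedCategory.Qh W₁
  let R := (toD F).totalRightDerived DerivedCategory.Qh W₂
  let β := (toD F).totalRightDerivedUnit DerivedCategory.Qh W₂
  let η := LeftDerTri.derivedIso α h
  letI := LeftDerTri.commShift η h
  haveI := LeftDerTri.isTriangulated η h
  refine ⟨L, inferInstance, inferInstance, ⟨η⟩, ?_⟩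
  haveI : (toD F).HasPointwiseRightDerivedFunctor W₂ :=
    RDerived.hasPointwiseRightDerivedFunctor_of_resolutions DerivedCategory.Qh _ _ fun M => by
      obtain ⟨I, hI, s, hs⟩ := exists_local M
      exact ⟨_, s, hs, fun K => CochainComplex.IsKInjective.Qh_map_bijective K I⟩
  haveI : (L ⋙ R).IsLeftDerivedFunctor
      ((Functor.associator _ _ _).inv ≫ whiskerRight α R) W₁ := by
    refine LeftDer.isLeftDerivedFunctor_of_isIso_resolved
      (W₁ := HomologicalComplex.quasiIso A (ComplexShape.up ℤ)) W₁ DerivedCategory.Qh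
      (HomotopyCategory.quotient A (ComplexShape.up ℤ))
      (HomologicalComplex.homotopyEquivalences A (ComplexShape.up ℤ)) (ψ₀ := h.ψ) h.quasiIso
      (fun X Y f hf => ?_) (fun X => ?_) _ _ (fun X => ?_)
    · haveI : QuasiIso f := hf
      haveI := quasiIso_R_map h f
      haveI := isIso_toDL_map h (h.R.map f) (h.mem X) (h.mem Y)
      exact inferInstanceAs (IsIso (R.map
        ((HomotopyCategory.quotient A (ComplexShape.up ℤ) ⋙ toDL G).map (h.R.map f))))
    · haveI := h.quasiIso (h.R.obj X)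
      haveI := isIso_toDL_map h (h.ψ.app (h.R.obj X)) (h.mem _) (h.mem X)
      exact inferInstanceAs (IsIso (R.map
        ((HomotopyCategory.quotient A (ComplexShape.up ℤ) ⋙ toDL G).map (h.ψ.app (h.R.obj X)))))
    · haveI := LeftDerTri.isIso_counit α h (h.R.obj X) (h.mem X)
      simp only [NatTrans.comp_app, associator_inv_app, whiskerRight_app]
      infer_instance
  haveI : (R ⋙ L).IsRightDerivedFunctor
      (whiskerRight β L ≫ (Functor.associator _ _ _).hom) W₂ := by
    refine RDerived.isRightDerivedFunctor_of_isIso_local _ _ _ _ _ fun M => ?_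
    obtain ⟨I, hI, s, hs⟩ := exists_local M
    refine ⟨_, s, hs, fun K => CochainComplex.IsKInjective.Qh_map_bijective K I, ?_⟩
    haveI : IsIso (β.app ((HomotopyCategory.quotient _ _).obj I)) :=
      RDerived.isIso_unit_app_of_bijective DerivedCategory.Qh W₂ _ _ β _
        fun K => CochainComplex.IsKInjective.Qh_map_bijective K I
    simp only [NatTrans.comp_app, associator_hom_app, whiskerRight_app]
    infer_instance
  exact ⟨(homotopyAdj adj).derived W₁ W₂ α β⟩

end

section shift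

variable {T : Type*} [Category T] [HasShift T ℤ] [Preadditive T] [∀ n : ℤ, (shiftFunctor T n).Additive]

/-- `Hom(P, X⟦n⟧) = Hom(P⟦-n⟧, X)`. -/
noncomputable def shAdd (P X : T) (n : ℤ) : (P⟦-n⟧ ⟶ X) ≃+ (P ⟶ X⟦n⟧) where
  toFun x := (shiftEquiv T n).counitIso.inv.app P ≫ x⟦n⟧'
  invFun y := y⟦-n⟧' ≫ (shiftEquiv T n).unitIso.inv.app X
  left_inv x := ((shiftEquiv T n).symm.toAdjunction.homEquiv P X).left_inv x
  right_inv y := ((shiftEquiv T n).symm.toAdjunction.homEquiv P X).right_inv y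
  map_add' x y := (congrArg (_ ≫ ·) (shiftFunctor T n).map_add).trans (Preadditive.comp_add _ _ _ _ _ _)

lemma shAdd_comp {P P' X : T} (n : ℤ) (φ : P ⟶ P') (x : P'⟦-n⟧ ⟶ X) :
    shAdd P X n (φ⟦-n⟧' ≫ x) = φ ≫ shAdd P' X n x :=
  (shiftEquiv T n).symm.toAdjunction.homEquiv_naturality_left φ x

/-- Transport of Hom groups. -/
noncomputable def precompEquiv {P P' X : T} (i : P ≅ P') : (P' ⟶ X) ≃+ (P ⟶ X) where
  toFun x := i.hom ≫ x
  invFun x := i.inv ≫ x
  left_inv x := by simp
  right_inv x := by simp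
  map_add' x y := Preadditive.comp_add _ _ _ _ _ _

/-- Completeness through an adjunction. -/
theorem comp_iff_of_adj {T' : Type*} [Category T'] [HasShift T' ℤ] [Preadditive T']
    [∀ n : ℤ, (shiftFunctor T' n).Additive] {L : T' ⥤ T} [L.CommShift ℤ] [L.Additive] {R : T ⥤ T'}
    (adj : L ⊣ R) {P₀ : T'} {P₁ : T} (φ₀ : P₀ ⟶ P₀) (φ₁ : P₁ ⟶ P₁) (e₀ : L.obj P₀ ≅ P₁)
    (he₀ : L.map φ₀ ≫ e₀.hom = e₀.hom ≫ φ₁) (M : T) (n : ℤ) :
    Comp (Preadditive.leftComp ((R.obj M)⟦n⟧) φ₀) ↔ Comp (Preadditive.leftComp (M⟦n⟧) φ₁) := by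
  let eL : L.obj (P₀⟦-n⟧) ≅ P₁⟦-n⟧ := (L.commShiftIso (-n)).app P₀ ≪≫ (shiftFunctor T (-n)).mapIso e₀
  let E : (P₀ ⟶ (R.obj M)⟦n⟧) ≃+ (P₁ ⟶ M⟦n⟧) :=
    (shAdd P₀ (R.obj M) n).symm.trans ((adj.homAddEquiv (P₀⟦-n⟧) M).symm.trans
      ((precompEquiv (X := M) eL.symm).trans (shAdd P₁ M n)))
  have hL : L.map (φ₀⟦-n⟧') ≫ eL.hom = eL.hom ≫ φ₁⟦-n⟧' := by
    have h₁ : L.map (φ₀⟦-n⟧') ≫ (L.commShiftIso (-n)).hom.app P₀ =
        (L.commShiftIso (-n)).hom.app P₀ ≫ (L.map φ₀)⟦-n⟧' := (L.commShiftIso (-n)).hom.naturality φ₀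
    simp only [eL, Iso.trans_hom, Iso.app_hom, Functor.mapIso_hom, Category.assoc]
    rw [← (shiftFunctor T (-n)).map_comp, ← he₀, Functor.map_comp, reassoc_of% h₁]
  refine comp_iff_of_equiv E fun x => ?_
  obtain ⟨y, rfl⟩ := (shAdd P₀ (R.obj M) n).surjective x
  obtain ⟨z, rfl⟩ := (adj.homAddEquiv (P₀⟦-n⟧) M).surjective y
  show E (φ₀ ≫ _) = φ₁ ≫ E _
  have hz : φ₀⟦-n⟧' ≫ adj.homAddEquiv (P₀⟦-n⟧) M z = adj.homAddEquiv (P₀⟦-n⟧) M (L.map (φ₀⟦-n⟧') ≫ z) :=
    (adj.homEquiv_naturality_left _ _).symm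
  rw [← shAdd_comp]
  simp only [E, AddEquiv.trans_apply, AddEquiv.symm_apply_apply]
  rw [hz, AddEquiv.symm_apply_apply, ← shAdd_comp]
  refine congrArg (shAdd P₁ M n) ?_
  show eL.inv ≫ L.map _ ≫ z = _ ≫ eL.inv ≫ z
  rw [← cancel_epi eL.hom, Iso.hom_inv_id_assoc, ← reassoc_of% hL, Iso.hom_inv_id_assoc]

end shift

/-- `CompFor` through an adjunction of derived categories. -/
theorem compFor_iff_of_adj {A : Type u} [Category.{v} A] [Abelian A] [HasDerivedCategory.{w} A]
    {B : Type u'} [Category.{v} B] [Abelian B] [HasDerivedCategory.{w'} B]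
    {L : DerivedCategory A ⥤ DerivedCategory B} [L.CommShift ℤ] [L.IsTriangulated]
    {R : DerivedCategory B ⥤ DerivedCategory A} (adj : L ⊣ R) {G : A} {φ : G ⟶ G} {G' : B} {φ' : G' ⟶ G'}
    (e₀ : L.obj ((S0 (A := A)).obj G) ≅ (S0 (A := B)).obj G')
    (he₀ : L.map ((S0 (A := A)).map φ) ≫ e₀.hom = e₀.hom ≫ (S0 (A := B)).map φ')
    (M : DerivedCategory B) : CompFor G φ (R.obj M) ↔ CompFor G' φ' M :=
  forall_congr' fun n => comp_iff_of_adj adj _ _ e₀ he₀ M n

end Groth.Agent.H16Derived.DerCompLib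

namespace Groth.Agent.H16Derived.DerCompLib

universe u₀

open H15Site.SiteGenInst Opposite H15Site

attribute [local instance] HasDerivedCategory.standard
attribute [local instance] PullKFlat.additive_pull
attribute [local instance 10000] SiteInst.hasSheafifySite SiteInst.hasWeakSheafifySite

variable {C D : Type u₀} [SmallCategory C] [SmallCategory D] {J : GrothendieckTopology C}
  {K : GrothendieckTopology D} {O_C : Sheaf J CommRingCat.{u₀}} {O_D : Sheaf K CommRingCat.{u₀}}
  (f : ModSite.RMor O_C O_D)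

/-- The image of a section under the structure map. -/
noncomputable def sharpSect (Y : D) (g : O_D.obj.obj (op Y)) : O_C.obj.obj (op (f.fn.obj Y)) :=
  (f.sharp.hom.app (op Y)).hom g

/-- The pull-back of a free module with multiplication by `g`. -/
noncomputable def freeEndoPull (Y : D) (g : O_D.obj.obj (op Y)) {G : ModSite.Mod O_D} {φ : G ⟶ G}
    (P : FreeEndo O_D Y g G φ) :
    FreeEndo O_C (f.fn.obj Y) (sharpSect f Y g) (f.pull.obj G) (f.pull.map φ) where
  e F := (f.adj.homEquiv G F).trans (P.e (f.push.obj F))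
  nat {F F'} x h := by
    show P.e _ (f.adj.homEquiv G F' (x ≫ h)) = _
    rw [Adjunction.homEquiv_naturality_right, P.nat]
    rfl
  endo {F} x := by
    show P.e _ (f.adj.homEquiv G F (f.pull.map φ ≫ x)) = _
    rw [Adjunction.homEquiv_naturality_left, P.endo]
    rfl

/-- Completeness of the direct image. -/
theorem compAt_push_iff [SiteCmp.HasRpushD f] (Y : D) (g : O_D.obj.obj (op Y))
    (M : DerivedCategory (ModSite.Mod O_C)) :
    CompAt O_D Y g ((SiteCmp.RpushD f).obj M) ↔ CompAt O_C (f.fn.obj Y) (sharpSect f Y g) M := by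
  haveI := H10Coh.isGrothendieckAbelian_sheafOfModules (ModSite.ringSh O_C)
  obtain ⟨L, _, _, ⟨η⟩, ⟨adj⟩⟩ := exists_leftAdjoint_natural (G := f.pull) (F := f.push) f.adj
    (PullAdapted.pullAdapted f)
  let G := (freeModFunctor O_D).obj Y
  let φ : G ⟶ G := (eMod O_D Y _).symm (smulSect O_D g (eMod O_D Y _ (𝟙 _)))
  have P : FreeEndo O_D Y g G φ := freeEndoGen O_D Y g
  rw [← P.compFor_iff, ← (freeEndoPull f Y g P).compFor_iff]
  let cx := CochainComplex.singleFunctor (ModSite.Mod O_D) 0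
  let S : (PullAdapted.kflatFlat O_D).FullSubcategory := ⟨cx.obj G, FreePush.kflatFlat_single Y⟩
  let σ : S ⟶ S := ObjectProperty.homMk (cx.map φ)
  let e₀ : L.obj ((S0 (A := ModSite.Mod O_D)).obj G) ≅ (S0 (A := ModSite.Mod O_C)).obj (f.pull.obj G) :=
    η.app S ≪≫ DerivedCategory.Q.mapIso
      ((HomologicalComplex.singleMapHomologicalComplex f.pull (ComplexShape.up ℤ) 0).app G)
  have he₀ : L.map ((S0 (A := ModSite.Mod O_D)).map φ) ≫ e₀.hom =
      e₀.hom ≫ (S0 (A := ModSite.Mod O_C)).map (f.pull.map φ) := by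
    have h₁ : L.map ((S0 (A := ModSite.Mod O_D)).map φ) ≫ (η.app S).hom = (η.app S).hom ≫
        DerivedCategory.Q.map ((f.pull.mapHomologicalComplex (ComplexShape.up ℤ)).map (cx.map φ)) :=
      η.hom.naturality σ
    have h₂ : DerivedCategory.Q.map ((f.pull.mapHomologicalComplex (ComplexShape.up ℤ)).map (cx.map φ)) ≫
        DerivedCategory.Q.map ((HomologicalComplex.singleMapHomologicalComplex f.pull (ComplexShape.up ℤ) 0).hom.app G) =
      DerivedCategory.Q.map ((HomologicalComplex.singleMapHomologicalComplex f.pull (ComplexShape.up ℤ) 0).hom.app G) ≫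
        (S0 (A := ModSite.Mod O_C)).map (f.pull.map φ) :=
      (DerivedCategory.Q.map_comp _ _).symm.trans ((congrArg DerivedCategory.Q.map
        ((HomologicalComplex.singleMapHomologicalComplex f.pull (ComplexShape.up ℤ) 0).hom.naturality φ)).trans
          (DerivedCategory.Q.map_comp _ _))
    exact ((Category.assoc _ _ _).symm.trans (congrArg (· ≫ _) h₁)).trans
      ((Category.assoc _ _ _).trans ((congrArg (_ ≫ ·) h₂).trans (Category.assoc _ _ _).symm))
  exact compFor_iff_of_adj adj e₀ he₀ M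

end Groth.Agent.H16Derived.DerCompLib
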