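import Groth.Agent.H16Derived.DerComp.Fibre
import Groth.Agent.H16Derived.ExactAdj
import Groth.Agent.H15Site.ModOver
import Groth.Agent.H02CA.ModRestrExact

/-!
# Derived completeness is local on the site
-/

set_option autoImplicit false
set_option linter.style.haveILetI false

universe u

open CategoryTheory CategoryTheory.Limits Opposite

attribute [local instance] HasDerivedCategory.standard

namespace Groth.Agent.H16Derived.DerCompLib

open H15Site.SiteGenInst H15Site

attribute [local instance 10000] SiteInst.hasSheafifySite SiteInst.hasWeakSheafifySite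

variable {C : Type u} [SmallCategory C] {J : GrothendieckTopology C} (O : Sheaf J CommRingCat.{u})

lemma smul_id_eq (s : DerComp.GSec O) (G : ModSite.Mod O) : s • 𝟙 G = DerComp.smulEnd s G := by
  rw [DerComp.smul_def, Category.comp_id]

/-- Free modules of the localised site give free modules on the site. -/
noncomputable def freeEndoOver (W : C) (s : DerComp.GSec (O.over W)) (V : Over W) :
    FreeEndo O V.left (s.1 V) ((ModSite.extZero O W).obj ((freeModFunctor (O.over W)).obj V))
      ((ModSite.extZero O W).map (s • 𝟙 ((freeModFunctor (O.over W)).obj V))) where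
  e F := ((ModSite.extZeroAdj O W).homEquiv _ F).trans (eMod (O.over W) V ((ModSite.restr O W).obj F))
  nat {F F'} x h := by
    show eMod _ V _ ((ModSite.extZeroAdj O W).homEquiv _ F' (x ≫ h)) = _
    rw [Adjunction.homEquiv_naturality_right]
    exact eMod_naturality_right _ _ _
  endo {F} x := by
    show eMod _ V _ ((ModSite.extZeroAdj O W).homEquiv _ F ((ModSite.extZero O W).map _ ≫ x)) = _
    rw [Adjunction.homEquiv_naturality_left, smul_id_eq, DerComp.smulEnd_comm]
    exact eMod_naturality_right _ _ _

/-- Separation by the free modules on a covering sieve. -/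
lemma eq_zero_of_sieve {W : C} (S : Sieve W) (hS : S ∈ J W) {X Y : ModSite.Mod (O.over W)} (φ : X ⟶ Y)
    (h : ∀ V : {V : Over W // S.arrows V.hom}, ∀ x : (freeModFunctor (O.over W)).obj V.1 ⟶ X, x ≫ φ = 0) : φ = 0 := by
  refine (genMod (O.over W)).gen φ fun U x => ?_
  refine (genMod (O.over W)).sep (S := (Sieve.overEquiv U).symm (S.pullback U.hom))
    (J.overEquiv_symm_mem_over _ _ (J.pullback_stable _ hS)) _ fun V g hg => ?_
  have hV : S.arrows V.hom := by
    have : S.arrows (g.left ≫ U.hom) := hg
    rwa [Over.w g] at this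
  rw [← Category.assoc]
  exact h ⟨V, hV⟩ _

/-- The test object for completeness at a section over `W`. -/
theorem exists_testObj {W : C} (f : O.obj.obj (op W)) (K : DerivedCategory (ModSite.Mod O))
    [(ModSite.restr O W).Additive] [PreservesFiniteLimits (ModSite.restr O W)]
    [PreservesFiniteColimits (ModSite.restr O W)] :
    ∃ L : DerivedCategory (ModSite.Mod (O.over W)),
      (∀ V : Over W, CompAt O V.left ((O.obj.map V.hom.op).hom f) K ↔
        ∀ j : ℤ, Subsingleton (((S0 (A := ModSite.Mod (O.over W))).obj ((freeModFunctor (O.over W)).obj V))⟦j⟧ ⟶ L)) ∧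
      ∀ Z : DerivedCategory (ModSite.Mod (O.over W)),
        (∀ n : ℤ, Comp (Preadditive.leftComp (((ModSite.restr O W).mapDerivedCategory.obj K)⟦n⟧)
          (DerComp.GSec.ofSect O W f • 𝟙 Z))) ↔ ∀ j : ℤ, Subsingleton (Z⟦j⟧ ⟶ L) := by
  haveI := H10Coh.isGrothendieckAbelian_sheafOfModules (ModSite.ringSh (O.over W))
  haveI := ModOver.preservesFiniteLimits_extZero O W
  haveI := ModOver.preservesFiniteColimits_extZero O W
  haveI : (ModSite.extZero O W).Additive := DerComp.additive_extZero W
  haveI := KInjRes.hasProducts_derivedCategory (A := ModSite.Mod (O.over W))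
  have hℕ : HasLimitsOfShape (Discrete ℕ) (DerivedCategory (ModSite.Mod (O.over W))) :=
    hasLimitsOfShape_of_equivalence (Discrete.equivalence (Equiv.ulift.{u, 0} : ULift.{u} ℕ ≃ ℕ))
  let A := ModSite.Mod (O.over W)
  let adj := ExactAdj.mapDerivedCategoryAdj (ModSite.extZeroAdj O W)
  let K' := (ModSite.restr O W).mapDerivedCategory.obj K
  let s := DerComp.GSec.ofSect O W f
  haveI : HasProduct fun _ : ℕ => K' := hℕ.has_limit _
  have hfib := exists_fibre (R := DerComp.GSec (O.over W)) (A := ModSite.Mod (O.over W)) s K'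
  obtain ⟨L, a, c, hT⟩ := hfib
  have hiff : ∀ V : Over W, CompAt O V.left ((O.obj.map V.hom.op).hom f) K ↔
      ∀ j : ℤ, Subsingleton (((S0 (A := A)).obj ((freeModFunctor (O.over W)).obj V))⟦j⟧ ⟶ L) := fun V => by
    rw [← compFor_smul_iff_of_triangle hT]
    refine ((freeEndoOver O W s V).compFor_iff O K).symm.trans ?_
    let G : A := (freeModFunctor (O.over W)).obj V
    let φ : G ⟶ G := s • 𝟙 G
    show CompFor ((ModSite.extZero O W).obj G) ((ModSite.extZero O W).map φ) K ↔ CompFor G φ K'
    exact (compFor_iff_of_adj (G := G) (φ := φ) (G' := (ModSite.extZero O W).obj G)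
      (φ' := (ModSite.extZero O W).map φ) adj
      (((ModSite.extZero O W).mapDerivedCategorySingleFunctor 0).app G)
      (((ModSite.extZero O W).mapDerivedCategorySingleFunctor 0).hom.naturality φ) K).symm
  exact ⟨L, hiff, fun Z => comp_smul_iff_of_triangle hT Z⟩

/-- Completeness can be checked on a covering sieve. -/
theorem compAt_of_sieve {W : C} (f : O.obj.obj (op W)) (K : DerivedCategory (ModSite.Mod O)) (S : Sieve W)
    (hS : S ∈ J W) (h : ∀ ⦃V : C⦄ (g : V ⟶ W), S g → CompAt O V ((O.obj.map g.op).hom f) K) :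
    CompAt O W f K := by
  haveI := H10Coh.isGrothendieckAbelian_sheafOfModules (ModSite.ringSh (O.over W))
  haveI := H02CA.ModRestrExact.preservesFiniteLimits_restr O W
  haveI := H02CA.ModRestrExact.preservesFiniteColimits_restr O W
  haveI : (ModSite.restr O W).Additive := Functor.additive_of_preserves_binary_products _
  obtain ⟨L, hiff, -⟩ := exists_testObj O f K
  have hL : IsZero L := isZero_of_separating (ι := {V : Over W // S.arrows V.hom})
    (fun φ hφ => eq_zero_of_sieve O S hS φ hφ) L fun V => (hiff V.1).1 (h V.1.hom V.2)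
  have := (hiff (Over.mk (𝟙 W))).2 fun j => ⟨fun x y => hL.eq_of_tgt x y⟩
  rwa [show ((O.obj.map (Over.mk (𝟙 W)).hom.op).hom f) = f by
    show (O.obj.map (𝟙 W).op).hom f = f
    rw [op_id, CategoryTheory.Functor.map_id]; rfl] at this

/-- On `C/W` every object maps completely to an object complete along `f`. -/
theorem comp_restr_of_compAt {W : C} (f : O.obj.obj (op W)) (K : DerivedCategory (ModSite.Mod O))
    [(ModSite.restr O W).Additive] [PreservesFiniteLimits (ModSite.restr O W)]
    [PreservesFiniteColimits (ModSite.restr O W)]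
    (h : ∀ ⦃V : C⦄ (g : V ⟶ W), CompAt O V ((O.obj.map g.op).hom f) K)
    (Z : DerivedCategory (ModSite.Mod (O.over W))) (n : ℤ) :
    Comp (Preadditive.leftComp (((ModSite.restr O W).mapDerivedCategory.obj K)⟦n⟧)
      (DerComp.GSec.ofSect O W f • 𝟙 Z)) := by
  haveI := H10Coh.isGrothendieckAbelian_sheafOfModules (ModSite.ringSh (O.over W))
  obtain ⟨L, hiff, hZ⟩ := exists_testObj O f K
  have hL : IsZero L := isZero_of_separating (ι := {V : Over W // (⊤ : Sieve W).arrows V.hom})
    (fun φ hφ => eq_zero_of_sieve O ⊤ (J.top_mem W) φ hφ) L fun V => (hiff V.1).1 (h V.1.hom)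
  exact (hZ Z).2 (fun j => ⟨fun x y => hL.eq_of_tgt x y⟩) n

/-- Completeness on all restrictions is local. -/
theorem compAt_all_of_sieve {W : C} (f : O.obj.obj (op W)) (K : DerivedCategory (ModSite.Mod O)) (S : Sieve W)
    (hS : S ∈ J W) (h : ∀ ⦃V : C⦄ (g : V ⟶ W), S g → CompAt O V ((O.obj.map g.op).hom f) K) ⦃V : C⦄ (g : V ⟶ W) :
    CompAt O V ((O.obj.map g.op).hom f) K := by
  refine compAt_of_sieve O _ K (S.pullback g) (J.pullback_stable g hS) fun Z k hk => ?_
  have := h (k ≫ g) hk
  rwa [op_comp, Functor.map_comp, CommRingCat.comp_apply] at this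

/-- The sheaf of ideals of sections at which `K` is complete. -/
def compIdeal (K : DerivedCategory (ModSite.Mod O)) : DerComp.IdealSh O where
  ideal U :=
    { carrier := {f | ∀ (V : C) (g : V ⟶ U), CompAt O V ((O.obj.map g.op).hom f) K}
      add_mem' := fun ha hb V g => by rw [map_add]; exact compAt_add O (ha V g) (hb V g)
      zero_mem' := fun V g => by rw [map_zero]; exact compAt_zero O V K
      smul_mem' := fun r f hf V g => by rw [smul_eq_mul, map_mul]; exact compAt_mul O _ (hf V g) }
  map_mem g f hf V h := by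
    have := hf V (h ≫ g)
    rwa [op_comp, Functor.map_comp, CommRingCat.comp_apply] at this
  glue {U f} S hS hf := compAt_all_of_sieve O f K S hS fun V g hg => by
    have := hf g hg V (𝟙 V)
    rwa [op_id, CategoryTheory.Functor.map_id] at this

theorem mem_compIdeal_iff (K : DerivedCategory (ModSite.Mod O)) (U : C) (f : O.obj.obj (op U)) :
    f ∈ (compIdeal O K).ideal U ↔ ∀ (V : C) (g : V ⟶ U) (n : ℤ), Subsingleton
      (SiteCmp.inD O ((ModSite.extZero O V).obj (DerComp.awayOver O V ((O.obj.map g.op).hom f))) ⟶ K⟦n⟧) :=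
  forall₂_congr fun V _ => (subsingleton_iff_compAt O V _ K).symm

theorem isDerComp_iff_le (I : DerComp.IdealSh O) (K : DerivedCategory (ModSite.Mod O)) :
    DerComp.IsDerComp O I K ↔ I ≤ compIdeal O K := by
  rw [isDerComp_iff]
  refine ⟨fun h U f hf V g => h V _ (I.map_mem g hf), fun h U f hf => ?_⟩
  have := h U hf U (𝟙 U)
  rwa [op_id, CategoryTheory.Functor.map_id] at this

end Groth.Agent.H16Derived.DerCompLib
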