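import Groth.Agent.H16Derived.DerComp.SiteTensor
import Groth.Agent.H16Derived.DerComp.Local

/-!
# `RHom` into a derived complete object is derived complete
-/

set_option autoImplicit false
set_option linter.style.haveILetI false

universe w v u t

open CategoryTheory CategoryTheory.Limits

namespace Groth.Agent.H16Derived.DerCompLib

section

variable {T : Type t} [Category.{v} T] [Preadditive T]

lemma comp_leftComp_iff_of_iso {P Q M : T} (i : P ≅ Q) {φ : P ⟶ P} {ψ : Q ⟶ Q} (h : φ ≫ i.hom = i.hom ≫ ψ) :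
    Comp (Preadditive.leftComp M φ) ↔ Comp (Preadditive.leftComp M ψ) := by
  refine (comp_iff_of_equiv (precompEquiv (X := M) i) fun x => ?_).symm
  show i.hom ≫ ψ ≫ x = φ ≫ i.hom ≫ x
  rw [reassoc_of% h]

lemma comp_shift_iff [HasShift T ℤ] [∀ n : ℤ, (shiftFunctor T n).Additive] (P M : T) (φ : P ⟶ P) (n : ℤ) :
    Comp (Preadditive.leftComp (M⟦n⟧) φ) ↔ Comp (Preadditive.leftComp M (φ⟦-n⟧')) :=
  (comp_iff_of_equiv (shAdd P M n) fun x => shAdd_comp n φ x).symm

lemma comp_adj_iff {T' : Type*} [Category T'] [Preadditive T'] {F : T' ⥤ T} [F.Additive] {R : T ⥤ T'}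
    (adj : F ⊣ R) {P : T'} (φ : P ⟶ P) (M : T) :
    Comp (Preadditive.leftComp (R.obj M) φ) ↔ Comp (Preadditive.leftComp M (F.map φ)) :=
  (comp_iff_of_equiv (adj.homAddEquiv P M) fun x => adj.homEquiv_naturality_left φ x).symm

end

section

variable {A : Type u} [Category.{v} A] [Abelian A] [HasDerivedCategory.{w} A]

/-- A triangle functor's value on shifted modules, through a model on complexes. -/
theorem compFor_iff_of_model {Φ R : DerivedCategory A ⥤ DerivedCategory A} [Φ.Additive] (adj : Φ ⊣ R)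
    (Ψ : CochainComplex A ℤ ⥤ CochainComplex A ℤ) [Ψ.CommShift ℤ]
    (α : DerivedCategory.Q ⋙ Φ ⟶ Ψ ⋙ DerivedCategory.Q) (G : A) (φ : G ⟶ G)
    (hα : ∀ n : ℤ, IsIso (α.app (((CochainComplex.singleFunctor A 0).obj G)⟦n⟧)))
    {P₁ : DerivedCategory A} (φ₁ : P₁ ⟶ P₁)
    (e : DerivedCategory.Q.obj (Ψ.obj ((CochainComplex.singleFunctor A 0).obj G)) ≅ P₁)
    (he : DerivedCategory.Q.map (Ψ.map ((CochainComplex.singleFunctor A 0).map φ)) ≫ e.hom = e.hom ≫ φ₁)
    (L : DerivedCategory A) :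
    CompFor G φ (R.obj L) ↔ ∀ n : ℤ, Comp (Preadditive.leftComp (L⟦n⟧) φ₁) := by
  refine forall_congr' fun n => ?_
  let S := CochainComplex.singleFunctor A 0
  let X := (S.obj G)⟦-n⟧
  let e₀ : ((S0 (A := A)).obj G)⟦-n⟧ ≅ DerivedCategory.Q.obj X :=
    (CategoryTheory.shiftFunctor _ (-n)).mapIso ((DerivedCategory.singleFunctorIsoCompQ A 0).app G) ≪≫
      ((DerivedCategory.Q.commShiftIso (-n)).app (S.obj G)).symm
  have he₀ : ((S0 (A := A)).map φ)⟦-n⟧' ≫ e₀.hom = e₀.hom ≫ DerivedCategory.Q.map ((S.map φ)⟦-n⟧') := by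
    have h₁ : (S0 (A := A)).map φ ≫ (DerivedCategory.singleFunctorIsoCompQ A 0).hom.app G =
        (DerivedCategory.singleFunctorIsoCompQ A 0).hom.app G ≫ DerivedCategory.Q.map (S.map φ) :=
      (DerivedCategory.singleFunctorIsoCompQ A 0).hom.naturality φ
    have h₂ : (DerivedCategory.Q.map (S.map φ))⟦-n⟧' ≫ (DerivedCategory.Q.commShiftIso (-n)).inv.app (S.obj G) =
        (DerivedCategory.Q.commShiftIso (-n)).inv.app (S.obj G) ≫ DerivedCategory.Q.map ((S.map φ)⟦-n⟧') :=
      (DerivedCategory.Q.commShiftIso (-n)).inv.naturality (S.map φ)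
    simp only [e₀, Iso.trans_hom, Functor.mapIso_hom, Iso.app_hom, Iso.symm_hom, Category.assoc]
    erw [← Functor.map_comp_assoc, h₁, Functor.map_comp_assoc, h₂]
    rfl
  haveI : IsIso (α.app X) := hα (-n)
  let e₁ : Φ.obj (DerivedCategory.Q.obj X) ≅ P₁⟦-n⟧ :=
    asIso (α.app X) ≪≫ DerivedCategory.Q.mapIso ((Ψ.commShiftIso (-n)).app (S.obj G)) ≪≫
      (DerivedCategory.Q.commShiftIso (-n)).app (Ψ.obj (S.obj G)) ≪≫
      (CategoryTheory.shiftFunctor _ (-n)).mapIso e
  have he₁ : Φ.map (DerivedCategory.Q.map ((S.map φ)⟦-n⟧')) ≫ e₁.hom = e₁.hom ≫ φ₁⟦-n⟧' := by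
    have h₁ : Φ.map (DerivedCategory.Q.map ((S.map φ)⟦-n⟧')) ≫ α.app X =
        α.app X ≫ DerivedCategory.Q.map (Ψ.map ((S.map φ)⟦-n⟧')) := α.naturality _
    have h₂ : Ψ.map ((S.map φ)⟦-n⟧') ≫ (Ψ.commShiftIso (-n)).hom.app (S.obj G) =
        (Ψ.commShiftIso (-n)).hom.app (S.obj G) ≫ (Ψ.map (S.map φ))⟦-n⟧' :=
      (Ψ.commShiftIso (-n)).hom.naturality (S.map φ)
    have h₃ : DerivedCategory.Q.map ((Ψ.map (S.map φ))⟦-n⟧') ≫
          (DerivedCategory.Q.commShiftIso (-n)).hom.app (Ψ.obj (S.obj G)) =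
        (DerivedCategory.Q.commShiftIso (-n)).hom.app (Ψ.obj (S.obj G)) ≫
          (DerivedCategory.Q.map (Ψ.map (S.map φ)))⟦-n⟧' :=
      (DerivedCategory.Q.commShiftIso (-n)).hom.naturality (Ψ.map (S.map φ))
    have h₄ : (DerivedCategory.Q.map (Ψ.map (S.map φ)))⟦-n⟧' ≫ e.hom⟦-n⟧' = e.hom⟦-n⟧' ≫ φ₁⟦-n⟧' := by
      rw [← Functor.map_comp, ← Functor.map_comp, he]
    simp only [e₁, Iso.trans_hom, asIso_hom, Functor.mapIso_hom, Iso.app_hom, Category.assoc]
    rw [reassoc_of% h₁, ← Functor.map_comp_assoc, h₂, Functor.map_comp_assoc, reassoc_of% h₃, h₄]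
  show Comp (Preadditive.leftComp ((R.obj L)⟦n⟧) ((S0 (A := A)).map φ)) ↔ _
  rw [comp_shift_iff, comp_leftComp_iff_of_iso e₀ he₀, comp_adj_iff adj, comp_leftComp_iff_of_iso e₁ he₁,
    ← comp_shift_iff]

theorem additive_of_adj {Φ R : DerivedCategory A ⥤ DerivedCategory A} (adj : Φ ⊣ R) : Φ.Additive := by
  haveI : PreservesColimitsOfSize.{0, 0} Φ := adj.leftAdjoint_preservesColimits
  haveI : PreservesColimitsOfShape (Discrete WalkingPair) Φ := inferInstance
  haveI := preservesBinaryBiproducts_of_preservesBinaryCoproducts Φ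
  exact Functor.additive_of_preservesBinaryBiproducts _

theorem comp_iff_of_adjD {B : Type*} [Category B] [Abelian B] [HasDerivedCategory B]
    {L : DerivedCategory B ⥤ DerivedCategory A} [L.CommShift ℤ] [L.IsTriangulated]
    {R : DerivedCategory A ⥤ DerivedCategory B} (adj : L ⊣ R) {P₀ : DerivedCategory B} {P₁ : DerivedCategory A}
    (φ₀ : P₀ ⟶ P₀) (φ₁ : P₁ ⟶ P₁) (e₀ : L.obj P₀ ≅ P₁) (he₀ : L.map φ₀ ≫ e₀.hom = e₀.hom ≫ φ₁)
    (M : DerivedCategory A) (n : ℤ) :
    Comp (Preadditive.leftComp ((R.obj M)⟦n⟧) φ₀) ↔ Comp (Preadditive.leftComp (M⟦n⟧) φ₁) :=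
  comp_iff_of_adj adj φ₀ φ₁ e₀ he₀ M n

lemma Q_map_smul_id {R : Type*} [CommRing R] [Linear R A] (r : R) (X : CochainComplex A ℤ) :
    DerivedCategory.Q.map (r • 𝟙 X) = r • 𝟙 (DerivedCategory.Q.obj X) := by
  rw [Functor.map_smul, CategoryTheory.Functor.map_id]

end

end Groth.Agent.H16Derived.DerCompLib

namespace Groth.Agent.H16Derived.DerCompLib

universe u₀

open Opposite H15Site H15Site.ModTensor

attribute [local instance] HasDerivedCategory.standard
attribute [local instance 10000] SiteInst.hasSheafifySite SiteInst.hasWeakSheafifySite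

variable {C : Type u₀} [SmallCategory C] {J : GrothendieckTopology C} (O : Sheaf J CommRingCat.{u₀})

/-- `RHom` into a complete object is complete. -/
theorem compAt_rhom {W : C} (f : O.obj.obj (op W)) (P : CochainComplex (ModSite.Mod O) ℤ)
    [ModSite.HasLTensorCx P] [DerComp.HasRHom P] (L : DerivedCategory (ModSite.Mod O))
    (h : ∀ ⦃V : C⦄ (g : V ⟶ W), CompAt O V ((O.obj.map g.op).hom f) L) :
    CompAt O W f ((DerComp.RHom P).obj L) := by
  haveI := ModKFlat.countableAB4 (O := O)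
  haveI := ModOver.preservesFiniteLimits_extZero O W
  haveI := ModOver.preservesFiniteColimits_extZero O W
  haveI := H02CA.ModRestrExact.preservesFiniteLimits_restr O W
  haveI := H02CA.ModRestrExact.preservesFiniteColimits_restr O W
  haveI : (ModSite.restr O W).Additive := Functor.additive_of_preserves_binary_products _
  haveI : (ModSite.extZero O W).Additive := DerComp.additive_extZero W
  let A := ModSite.Mod O
  let B := ModSite.Mod (O.over W)
  let s := DerComp.GSec.ofSect O W f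
  let G : A := ModSite.freeOn O W
  let φ : G ⟶ G := θ O W f
  let adjR := DerComp.RHomAdj P
  haveI : (ModSite.LTensorCx P).Additive := additive_of_adj adjR
  let Ψ : CochainComplex A ℤ ⥤ CochainComplex A ℤ := (ModSite.tensorCx O).flip.obj P
  let α : DerivedCategory.Q ⋙ ModSite.LTensorCx P ⟶ Ψ ⋙ DerivedCategory.Q :=
    (ModSite.tensorCxQ P).totalLeftDerivedCounit DerivedCategory.Q
      (HomologicalComplex.quasiIso A (ComplexShape.up ℤ))
  have hα : ∀ n : ℤ, IsIso (α.app (((CochainComplex.singleFunctor A 0).obj G)⟦n⟧)) := fun n =>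
    isIso_LTensorCx_counit O P _ ((flip_single_isKFlat O G (ModOver.isFlat_freeOn O W)).shift n)
  let jC := (ModSite.extZero O W).mapHomologicalComplex (ComplexShape.up ℤ)
  let P' := ((ModSite.restr O W).mapHomologicalComplex (ComplexShape.up ℤ)).obj P
  let P₀ := DerivedCategory.Q.obj P'
  let P₁ : DerivedCategory A := DerivedCategory.Q.obj (jC.obj P')
  let k : P' ⟶ P' := s • 𝟙 P'
  let φ₁ : P₁ ⟶ P₁ := DerivedCategory.Q.map (jC.map k)
  let J₁ : ((ModSite.tensorBi O).obj G).mapHomologicalComplex (ComplexShape.up ℤ) ≅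
      (ModSite.restr O W ⋙ ModSite.extZero O W).mapHomologicalComplex (ComplexShape.up ℤ) :=
    NatIso.mapHomologicalComplex (ModOver.freeOnTensor O W) (ComplexShape.up ℤ)
  let e' : Ψ.obj ((CochainComplex.singleFunctor A 0).obj G) ≅ jC.obj P' :=
    (singleLeftApp (ModSite.tensorBi O) P G).symm ≪≫ J₁.app P
  have he' : Ψ.map ((CochainComplex.singleFunctor A 0).map φ) ≫ e'.hom = e'.hom ≫ jC.map k := by
    have h₁ : Ψ.map ((CochainComplex.singleFunctor A 0).map φ) ≫ (singleLeftApp (ModSite.tensorBi O) P G).inv =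
        (singleLeftApp (ModSite.tensorBi O) P G).inv ≫
          (NatTrans.mapHomologicalComplex ((ModSite.tensorBi O).map φ) (ComplexShape.up ℤ)).app P := by
      let ε := singleLeftApp (ModSite.tensorBi O) P G
      exact (Iso.comp_inv_eq ε).2 ((((Category.assoc _ _ _).trans
        ((congrArg (ε.inv ≫ ·) (singleLeftApp_natural (ModSite.tensorBi O) P φ)).trans (Iso.inv_hom_id_assoc ε _)))).symm)
    have h₂ : (NatTrans.mapHomologicalComplex ((ModSite.tensorBi O).map φ) (ComplexShape.up ℤ)).app P ≫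
        J₁.hom.app P = J₁.hom.app P ≫ jC.map k := by
      refine HomologicalComplex.hom_ext _ _ fun q => ?_
      show ((ModSite.tensorBi O).map φ).app (P.X q) ≫ (ModOver.freeOnTensor O W).hom.app (P.X q) =
        (ModOver.freeOnTensor O W).hom.app (P.X q) ≫ (ModSite.extZero O W).map (k.f q)
      have hk : k.f q = DerComp.smulEnd s ((ModSite.restr O W).obj (P.X q)) := smul_id_eq (O.over W) s _
      rw [hk]
      exact smul_freeOnTensor O W s (P.X q)
    exact ((Category.assoc _ _ _).symm.trans ((congrArg (· ≫ J₁.hom.app P) h₁).trans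
      ((Category.assoc _ _ _).trans ((congrArg (_ ≫ ·) h₂).trans (Category.assoc _ _ _).symm))))
  show CompFor G φ _
  rw [compFor_iff_of_model adjR Ψ α G φ hα φ₁ (DerivedCategory.Q.mapIso e')
    ((DerivedCategory.Q.map_comp _ _).symm.trans ((congrArg DerivedCategory.Q.map he').trans (DerivedCategory.Q.map_comp _ _)))]
  intro n
  let adj := ExactAdj.mapDerivedCategoryAdj (ModSite.extZeroAdj O W)
  let e₀ : (ModSite.extZero O W).mapDerivedCategory.obj P₀ ≅ P₁ :=
    (ModSite.extZero O W).mapDerivedCategoryFactors.app P'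
  have he₀ : (ModSite.extZero O W).mapDerivedCategory.map (DerivedCategory.Q.map k) ≫ e₀.hom = e₀.hom ≫ φ₁ :=
    (ModSite.extZero O W).mapDerivedCategoryFactors.hom.naturality k
  refine (comp_iff_of_adjD adj (DerivedCategory.Q.map k) φ₁ e₀ he₀ L n).1 ?_
  have hk := Q_map_smul_id (A := B) s P'
  exact hk.symm ▸ comp_restr_of_compAt O f L h P₀ n

theorem isDerComp_rhom (I : DerComp.IdealSh O) (P : CochainComplex (ModSite.Mod O) ℤ)
    [ModSite.HasLTensorCx P] [DerComp.HasRHom P] (L : DerivedCategory (ModSite.Mod O))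
    (hL : DerComp.IsDerComp O I L) : DerComp.IsDerComp O I ((DerComp.RHom P).obj L) := by
  rw [isDerComp_iff] at hL ⊢
  exact fun W f hf => compAt_rhom O f P L fun V g => hL V _ (I.map_mem g hf)

end Groth.Agent.H16Derived.DerCompLib
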