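import Groth.Agent.H16Derived.DerComp.RestrFree
import Groth.Agent.H16Derived.DerComp.Push
import Groth.Agent.H16Derived.ExactRightAdj
import Groth.Agent.H02CA.ModRestrExact
import Groth.Prelude.Def_ModSite2
import Mathlib.CategoryTheory.Limits.Lattice

/-!
# Derived completion and restriction to an open
-/

set_option autoImplicit false
set_option linter.style.haveILetI false

universe u v₁ v₂ u₁ u₂

open CategoryTheory CategoryTheory.Limits Opposite TopologicalSpace

namespace Groth.Agent.H16Derived.DerCompLib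

/-- Reflections commute with a left adjoint whose right adjoint preserves the local objects. -/
theorem isIso_reflect_comparison {A : Type u₁} [Category.{v₁} A] {B : Type u₂} [Category.{v₂} B]
    {PA : ObjectProperty A} {PB : ObjectProperty B} {cA : A ⥤ PA.FullSubcategory} {cB : B ⥤ PB.FullSubcategory}
    (adjA : cA ⊣ PA.ι) (adjB : cB ⊣ PB.ι) {L : A ⥤ B} {R : B ⥤ A} (adj : L ⊣ R)
    (hR : ∀ Z, PB Z → PA (R.obj Z)) (X : A) (h : PB (L.obj (cA.obj X).obj)) :
    IsIso ((adjB.homEquiv (L.obj X) ⟨L.obj (cA.obj X).obj, h⟩).symm (L.map (adjA.unit.app X))) := by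
  let T : PB.FullSubcategory := ⟨L.obj (cA.obj X).obj, h⟩
  let g : L.obj X ⟶ T.obj := L.map (adjA.unit.app X)
  let m := (adjB.homEquiv (L.obj X) T).symm g
  have hm : ∀ (Z : PB.FullSubcategory) (ψ : T ⟶ Z),
      adjB.homEquiv (L.obj X) Z (m ≫ ψ) = g ≫ ψ.hom := fun Z ψ => by
    rw [Adjunction.homEquiv_naturality_right, Equiv.apply_symm_apply]
    rfl
  have hbij : ∀ Z : PB.FullSubcategory, Function.Bijective fun χ : T.obj ⟶ Z.obj => g ≫ χ := by
    intro Z
    let Z' : PA.FullSubcategory := ⟨R.obj Z.obj, hR _ Z.property⟩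
    have h₁ : Function.Bijective fun χ : (cA.obj X).obj ⟶ R.obj Z.obj => adjA.unit.app X ≫ χ := by
      have heq : (fun χ : (cA.obj X).obj ⟶ R.obj Z.obj => adjA.unit.app X ≫ χ) =
          fun χ => adjA.homEquiv X Z' (ObjectProperty.homMk χ) := funext fun χ => by
        rw [Adjunction.homEquiv_unit]; rfl
      rw [heq]
      exact (adjA.homEquiv X Z').bijective.comp
        ⟨fun a b hab => congrArg InducedCategory.Hom.hom hab, fun b => ⟨b.hom, rfl⟩⟩
    have heq : (fun χ : T.obj ⟶ Z.obj => g ≫ χ) = fun χ =>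
        (adj.homEquiv X Z.obj).symm (adjA.unit.app X ≫ adj.homEquiv (cA.obj X).obj Z.obj χ) := funext fun χ => by
      refine Eq.symm ((adj.homEquiv_naturality_left_symm _ _).trans ?_)
      exact congrArg (L.map (adjA.unit.app X) ≫ ·) ((adj.homEquiv (cA.obj X).obj Z.obj).symm_apply_apply χ)
    rw [heq]
    exact (adj.homEquiv X Z.obj).symm.bijective.comp (h₁.comp (adj.homEquiv _ Z.obj).bijective)
  obtain ⟨ψ, hψ⟩ := (hbij (cB.obj (L.obj X))).2 (adjB.homEquiv (L.obj X) (cB.obj (L.obj X)) (𝟙 _))
  refine ⟨ObjectProperty.homMk ψ, ?_, ?_⟩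
  · exact (adjB.homEquiv (L.obj X) _).injective ((hm _ _).trans hψ)
  · have hmψ : m ≫ (ObjectProperty.homMk ψ : T ⟶ cB.obj (L.obj X)) = 𝟙 _ :=
      (adjB.homEquiv (L.obj X) _).injective ((hm _ _).trans hψ)
    refine InducedCategory.hom_ext ((hbij T).1 ?_)
    show g ≫ ((ObjectProperty.homMk ψ : T ⟶ cB.obj (L.obj X)) ≫ m).hom = g ≫ 𝟙 _
    rw [← hm T, reassoc_of% hmψ, Equiv.apply_symm_apply, Category.comp_id]

end Groth.Agent.H16Derived.DerCompLib

namespace Groth.Agent.H16Derived.DerCompLib

open H15Site H15Site.SiteGenInst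

attribute [local instance] HasDerivedCategory.standard
attribute [local instance 10000] SiteInst.hasSheafifySite SiteInst.hasWeakSheafifySite

variable {X : Type u} [TopologicalSpace X] (O : Sheaf (Opens.grothendieckTopology X) CommRingCat.{u})
  (U : Opens X)

/-- The intersection is the product. -/
noncomputable def infIsLimit (V : Opens X) :
    IsLimit (BinaryFan.mk (homOfLE (inf_le_left : V ⊓ U ≤ V)) (homOfLE (inf_le_right : V ⊓ U ≤ U))) :=
  BinaryFan.IsLimit.mk _ (fun {T} f g => homOfLE (le_inf f.le g.le)) (fun _ _ => Subsingleton.elim _ _)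
    (fun _ _ => Subsingleton.elim _ _) (fun _ _ _ _ _ => Subsingleton.elim _ _)

/-- Restriction to an open commutes with completion. -/
theorem isIso_derCompletion_restr (I : DerComp.IdealSh O)
    [(ModSite.restr O U).Additive] [PreservesFiniteLimits (ModSite.restr O U)]
    [PreservesFiniteColimits (ModSite.restr O U)] [DerComp.HasDerCompletion O I]
    [DerComp.HasDerCompletion (O.over U) (I.over U)] (F : DerivedCategory (ModSite.Mod O))
    (h : DerComp.IsDerComp (O.over U) (I.over U)
      ((ModSite.restr O U).mapDerivedCategory.obj ((DerComp.derCompletion O I).obj F).obj)) :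
    IsIso (((DerComp.derCompletionAdj (O.over U) (I.over U)).homEquiv
      ((ModSite.restr O U).mapDerivedCategory.obj F)
      ⟨(ModSite.restr O U).mapDerivedCategory.obj ((DerComp.derCompletion O I).obj F).obj, h⟩).symm
        ((ModSite.restr O U).mapDerivedCategory.map (DerComp.toDerCompletion I F))) := by
  haveI := H10Coh.isGrothendieckAbelian_sheafOfModules (ModSite.ringSh (O.over U))
  haveI hPO : ModSite.HasPushOver O U := ModSite.hasPushOver_of_hasBinaryProducts O U
  haveI : (ModSite.pushOver O U).Additive := (Adjunction.ofIsLeftAdjoint (ModSite.restr O U)).right_adjoint_additive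
  haveI := ExactRightAdj.hasPointwise (B := ModSite.Mod (O.over U)) (A := ModSite.Mod O)
    (F := ModSite.pushOver O U)
  let adj := ExactRightAdj.adjD (Adjunction.ofIsLeftAdjoint (ModSite.restr O U))
  refine isIso_reflect_comparison (DerComp.derCompletionAdj O I) (DerComp.derCompletionAdj (O.over U) (I.over U))
    adj (fun Z hZ => ?_) F h
  rw [isDerComp_iff] at hZ ⊢
  intro V f hf
  have hle : V ⊓ U ≤ V := inf_le_left
  let q : V ⊓ U ⟶ U := homOfLE inf_le_right
  rw [← (freeEndoGen O V f).compFor_iff]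
  refine (compFor_iff_of_adj adj
    (((ModSite.restr O U).mapDerivedCategorySingleFunctor 0).app ((freeModFunctor O).obj V))
    (((ModSite.restr O U).mapDerivedCategorySingleFunctor 0).hom.naturality _) Z).2 ?_
  rw [(freeEndoRestr O (homOfLE hle) q (infIsLimit U V) f).compFor_iff]
  exact hZ _ _ (I.map_mem (homOfLE hle) hf)

end Groth.Agent.H16Derived.DerCompLib
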