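import Groth.Agent.H16Derived.DerComp.CompGroup
import Groth.Agent.H16Derived.KInjRes.Products
import Mathlib.CategoryTheory.Limits.Constructions.Filtered
import Mathlib.CategoryTheory.Triangulated.Yoneda
import Mathlib.Algebra.Homology.DerivedCategory.SingleTriangle
import Mathlib.Algebra.Homology.HomologicalComplexLimits

/-!
# The mapping telescope of an endomorphism
-/

set_option autoImplicit false
set_option linter.style.haveILetI false

universe w v u

open CategoryTheory CategoryTheory.Limits CategoryTheory.Pretriangulated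

namespace Groth.Agent.H16Derived.DerCompLib

variable {A : Type u} [Category.{v} A] [Abelian A] [IsGrothendieckAbelian.{v} A] (G : A) (φ : G ⟶ G)

/-- `x ↦ x` in the `n`-th summand minus `φ x` in the next. -/
noncomputable def away : (∐ fun _ : ℕ => G) ⟶ ∐ fun _ : ℕ => G :=
  Sigma.desc fun n => Sigma.ι (fun _ : ℕ => G) n - φ ≫ Sigma.ι (fun _ : ℕ => G) (n + 1)

/-- Powers. -/
noncomputable def pw : ℕ → (G ⟶ G)
  | 0 => 𝟙 G
  | k + 1 => φ ≫ pw k

lemma mono_sigmaPi :
    Mono (Sigma.desc (fun n => Pi.lift (fun m => if n = m then 𝟙 G else 0)) :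
      (∐ fun _ : ℕ => G) ⟶ ∏ᶜ fun _ : ℕ => G) := by
  classical
  haveI : AB5OfSize.{0, 0} A := AB5OfSize_shrink.{0, 0, v, v} A
  haveI : HasColimitsOfShape (Finset (Discrete ℕ)) A := inferInstance
  haveI : HasExactColimitsOfShape (Finset (Discrete ℕ)) A := AB5OfSize.ofShape _
  let f := (Sigma.desc (fun n => Pi.lift (fun m => if n = m then 𝟙 G else 0)) :
    (∐ fun _ : ℕ => G) ⟶ ∏ᶜ fun _ : ℕ => G)
  let c := CoproductsFromFiniteFiltered.finiteSubcoproductsCocone (fun _ : ℕ => G)
  let φ' : CoproductsFromFiniteFiltered.liftToFinsetObj (Discrete.functor fun _ : ℕ => G) ⟶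
      (Functor.const (Finset (Discrete ℕ))).obj (∏ᶜ fun _ : ℕ => G) :=
    { app := fun S => c.ι.app S ≫ f
      naturality := fun S T h => by
        rw [← Category.assoc, c.w h]
        exact (Category.comp_id _).symm }
  haveI : ∀ S, Mono (φ'.app S) := fun S => by
    let r : (∏ᶜ fun _ : ℕ => G) ⟶ ∐ (fun _ : S => G) :=
      ∑ s : S, Pi.π (fun _ : ℕ => G) s.1.as ≫ Sigma.ι (fun _ : S => G) s
    let i : (∐ fun _ : S => G) ⟶ ∐ fun _ : ℕ => G := Sigma.desc fun s => Sigma.ι (fun _ : ℕ => G) s.1.as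
    have key : ∀ s t : S, Sigma.ι (fun _ : S => G) s ≫ i ≫ f ≫ Pi.π (fun _ : ℕ => G) t.1.as =
        if s = t then 𝟙 G else 0 := fun s t => by
      simp only [i, f, colimit.ι_desc_assoc, Cofan.mk_ι_app, limit.lift_π, Fan.mk_π_app]
      by_cases h : s = t
      · rw [if_pos h, if_pos (by rw [h])]
      · rw [if_neg h, if_neg fun e => h (Subtype.ext (Discrete.ext e))]
    have : (i ≫ f) ≫ r = 𝟙 _ := Sigma.hom_ext _ _ fun s => by
      simp only [r, Preadditive.comp_sum, Category.assoc, Category.comp_id]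
      refine (Finset.sum_congr rfl fun t _ => ?_).trans (Finset.sum_eq_single_of_mem s (Finset.mem_univ s)
        (f := fun t : S => (if s = t then 𝟙 G else 0) ≫ Sigma.ι (fun _ : S => G) t)
        (fun t _ ht => by simp [Ne.symm ht])) |>.trans (by simp)
      rw [← reassoc_of% (key s t)]
    haveI : Mono (i ≫ f) := mono_of_mono_fac this
    exact (inferInstance : Mono (i ≫ f))
  haveI := NatTrans.mono_of_mono_app φ'
  exact colim.map_mono' φ' (CoproductsFromFiniteFiltered.isColimitFiniteSubproductsCocone _)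
    (isColimitConstCocone _ _) f fun S => (Category.comp_id _).symm

instance mono_away : Mono (away G φ) := by
  classical
  haveI := mono_sigmaPi (A := A) G
  let L : (∐ fun _ : ℕ => G) ⟶ ∏ᶜ fun _ : ℕ => G :=
    Sigma.desc fun n => Pi.lift fun m => if n ≤ m then pw G φ (m - n) else 0
  suffices away G φ ≫ L = Sigma.desc (fun n => Pi.lift (fun m => if n = m then 𝟙 G else 0)) by
    haveI : Mono (away G φ ≫ L) := by rw [this]; infer_instance
    exact mono_of_mono (away G φ) L
  refine Sigma.hom_ext _ _ fun n => Pi.hom_ext _ _ fun m => ?_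
  simp only [away, L, colimit.ι_desc_assoc, Cofan.mk_ι_app, Preadditive.sub_comp, Category.assoc,
    limit.lift_π, Fan.mk_π_app]
  rcases lt_trichotomy n m with h | rfl | h
  · rw [if_pos h.le, if_pos (show n + 1 ≤ m by omega), if_neg h.ne, show m - n = (m - (n + 1)) + 1 by omega]
    exact sub_self _
  · rw [if_pos le_rfl, if_neg (by omega), if_pos rfl, Nat.sub_self, comp_zero, sub_zero]
    rfl
  · rw [if_neg (by omega), if_neg (by omega), if_neg h.ne', comp_zero, sub_zero]

variable [HasDerivedCategory.{w} A]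

/-- `S = (-)[0]`. -/
noncomputable abbrev S0 : A ⥤ DerivedCategory A := DerivedCategory.singleFunctor A 0

lemma bijective_sigma (Y : DerivedCategory A) :
    Function.Bijective (fun g : (S0 (A := A)).obj (∐ fun _ : ℕ => G) ⟶ Y =>
      fun n => (S0 (A := A)).map (Sigma.ι (fun _ : ℕ => G) n) ≫ g) := by
  haveI : PreservesColimit (Discrete.functor fun _ : ℕ => G) (CochainComplex.singleFunctor A 0) :=
    inferInstanceAs (PreservesColimit _ (HomologicalComplex.single A (ComplexShape.up ℤ) 0))
  haveI := KInjRes.preservesCoproduct_Q (A := A) (fun _ : ℕ => (CochainComplex.singleFunctor A 0).obj G)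
  haveI : PreservesColimit (Discrete.functor fun _ : ℕ => G ) (CochainComplex.singleFunctor A 0 ⋙ DerivedCategory.Q) := by
    refine preservesColimit_of_preserves_colimit_cocone (coproductIsCoproduct fun _ : ℕ => G) ?_
    refine (isColimitMapCoconeCofanMkEquiv _ _ _).symm ?_
    exact isColimitCofanMkObjOfIsColimit DerivedCategory.Q _ _
      (isColimitCofanMkObjOfIsColimit (CochainComplex.singleFunctor A 0) _ _ (coproductIsCoproduct _))
  haveI : PreservesColimit (Discrete.functor fun _ : ℕ => G) (S0 (A := A)) :=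
    preservesColimit_of_natIso _ (DerivedCategory.singleFunctorIsoCompQ A 0).symm
  let hc := isColimitCofanMkObjOfIsColimit (S0 (A := A)) _ _ (coproductIsCoproduct fun _ : ℕ => G)
  refine ⟨fun g g' h => hc.hom_ext fun n => congrFun h n.as, fun x => ⟨hc.desc (Cofan.mk Y x), ?_⟩⟩
  funext n
  exact hc.fac (Cofan.mk Y x) ⟨n⟩

/-- Precomposition. -/
noncomputable def precomp {X X' Y : DerivedCategory A} (f : X ⟶ X') : (X' ⟶ Y) →+ (X ⟶ Y) :=
  Preadditive.leftComp Y f

lemma shiftSub_precomp {Y : DerivedCategory A} (g : (S0 (A := A)).obj (∐ fun _ : ℕ => G) ⟶ Y) :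
    shiftSub (precomp ((S0 (A := A)).map φ)) (fun n => (S0 (A := A)).map (Sigma.ι (fun _ : ℕ => G) n) ≫ g) =
      fun n => (S0 (A := A)).map (Sigma.ι (fun _ : ℕ => G) n) ≫ (S0 (A := A)).map (away G φ) ≫ g := by
  funext n
  rw [← Functor.map_comp_assoc, away, colimit.ι_desc, Cofan.mk_ι_app, Functor.map_sub, Functor.map_comp,
    Preadditive.sub_comp, Category.assoc]
  rfl

lemma comp_iff_bijective (Y : DerivedCategory A) :
    Comp (precomp (Y := Y) ((S0 (A := A)).map φ)) ↔
      Function.Bijective (fun g : (S0 (A := A)).obj (∐ fun _ : ℕ => G) ⟶ Y =>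
        (S0 (A := A)).map (away G φ) ≫ g) := by
  let E := Equiv.ofBijective _ (bijective_sigma G Y)
  unfold Comp
  rw [← Function.Bijective.of_comp_iff (shiftSub (precomp (Y := Y) ((S0 (A := A)).map φ))) E.bijective,
    show (shiftSub (precomp (Y := Y) ((S0 (A := A)).map φ)) : _ → _) ∘ E = E ∘ _ from
      funext fun g => shiftSub_precomp G φ g, E.comp_bijective]

/-- Maps out of the telescope vanish in all degrees iff all the Hom groups are complete. -/
theorem subsingleton_iff_comp (X : DerivedCategory A) :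
    (∀ n : ℤ, Subsingleton ((S0 (A := A)).obj (cokernel (away G φ)) ⟶ X⟦n⟧)) ↔
      ∀ n : ℤ, Comp (precomp (Y := X⟦n⟧) ((S0 (A := A)).map φ)) := by
  let S := ShortComplex.mk (away G φ) (cokernel.π _) (cokernel.condition _)
  have hS : S.ShortExact := { exact := ShortComplex.exact_cokernel (away G φ) }
  let T := hS.singleTriangle
  have hT : T ∈ distTriang (DerivedCategory A) := hS.singleTriangle_distinguished
  simp only [comp_iff_bijective G φ]
  change (∀ n : ℤ, Subsingleton (T.obj₃ ⟶ X⟦n⟧)) ↔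
    ∀ n : ℤ, Function.Bijective (fun g : T.obj₂ ⟶ X⟦n⟧ => T.mor₁ ≫ g)
  constructor
  · intro h n
    refine ⟨fun g g' e => ?_, fun g => ?_⟩
    · have e' : T.mor₁ ≫ (g - g') = 0 := by
        rw [Preadditive.comp_sub]
        exact sub_eq_zero.2 e
      obtain ⟨k, hk⟩ := T.yoneda_exact₂ hT _ e'
      rw [(h n).elim k 0, comp_zero] at hk
      exact sub_eq_zero.1 hk
    · let e := ((shiftFunctorAdd' (DerivedCategory A) n 1 (n + 1) rfl).app X).symm
      have hv : ∀ u : T.obj₃⟦(-1 : ℤ)⟧ ⟶ X⟦n⟧, u = 0 := fun u => by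
        apply (shiftFunctor (DerivedCategory A) (1 : ℤ)).map_injective
        rw [← cancel_epi ((shiftFunctorCompIsoId (DerivedCategory A) (-1 : ℤ) 1 (by omega)).inv.app T.obj₃),
          ← cancel_mono e.hom]
        exact (h (n + 1)).elim _ _
      have hz : T.invRotate.mor₁ ≫ g = 0 := hv _
      obtain ⟨k, hk⟩ := T.invRotate.yoneda_exact₂ (inv_rot_of_distTriang _ hT) g hz
      exact ⟨k, hk.symm⟩
  · intro h n
    refine ⟨fun f f' => ?_⟩
    rw [← sub_eq_zero]
    generalize f - f' = k
    have h₂ : T.mor₂ ≫ k = 0 := by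
      apply (h n).1
      show T.mor₁ ≫ T.mor₂ ≫ k = T.mor₁ ≫ 0
      rw [reassoc_of% comp_distTriang_mor_zero₁₂ T hT, zero_comp, comp_zero]
    obtain ⟨g, rfl⟩ := T.yoneda_exact₃ hT k h₂
    let e := (shiftFunctorAdd' (DerivedCategory A) (n - 1) 1 n (by omega)).app X
    obtain ⟨g₀, hg₀⟩ := (shiftFunctor (DerivedCategory A) (1 : ℤ)).map_surjective (g ≫ e.hom)
    obtain ⟨g₁, hg₁⟩ := (h (n - 1)).2 g₀
    rw [← cancel_mono e.hom, Category.assoc, ← hg₀, ← hg₁, Functor.map_comp,
      reassoc_of% comp_distTriang_mor_zero₃₁ T hT, zero_comp, zero_comp]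

end Groth.Agent.H16Derived.DerCompLib
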