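import Mathlib.Algebra.Group.Hom.Basic
import Mathlib.Algebra.Group.Pi.Lemmas
import Mathlib.Tactic.Abel

/-!
# Completeness of an abelian group with respect to an endomorphism
-/

set_option autoImplicit false

universe u v

namespace Groth.Agent.H16Derived.DerCompLib

variable {H : Type u} [AddCommGroup H] (a : H →+ H)

/-- `x ↦ (x_i - a x_{i+1})_i`. -/
def shiftSub : (ℕ → H) →+ (ℕ → H) where
  toFun x i := x i - a (x (i + 1))
  map_zero' := by funext i; simp
  map_add' x y := by funext i; simp; abel

lemma shiftSub_apply (x : ℕ → H) (i : ℕ) : shiftSub a x i = x i - a (x (i + 1)) := rfl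

/-- `H` is complete for `a`: `lim` and `lim¹` of `⋯ → H → H` vanish. -/
def Comp : Prop := Function.Bijective (shiftSub a)

lemma comp_zero_endo : Comp (0 : H →+ H) := by
  have : shiftSub (0 : H →+ H) = AddMonoidHom.id _ := by
    ext x i
    simp [shiftSub_apply]
  unfold Comp
  rw [this]
  exact Function.bijective_id

variable {a}

lemma Comp.eq_zero (h : Comp a) {x : ℕ → H} (hx : ∀ i, x i = a (x (i + 1))) : x = 0 :=
  h.1 (by funext i; simp [shiftSub_apply, ← hx i])

/-- The basic consequence: `1 - aT` is bijective for `T` commuting with `a`. -/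
lemma Comp.bijective_id_sub (h : Comp a) (T : H →+ H) (hT : ∀ y, a (T y) = T (a y)) :
    Function.Bijective (fun y => y - a (T y)) := by
  refine ⟨fun y z hyz => ?_, fun z => ?_⟩
  · have hw : y - z = a (T (y - z)) := by
      rw [map_sub, map_sub]
      exact sub_eq_sub_iff_sub_eq_sub.1 (hyz : y - a (T y) = z - a (T z))
    have hcomm : ∀ (i : ℕ) (w : H), a (T^[i] w) = T^[i] (a w) := by
      intro i
      induction i with
      | zero => intro w; rfl
      | succ i ih => intro w; rw [Function.iterate_succ_apply, ih, hT, ← Function.iterate_succ_apply]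
    have hp : (fun i => T^[i] (y - z)) = 0 := h.eq_zero fun i => by
      show T^[i] (y - z) = a (T^[i + 1] (y - z))
      rw [hcomm, Function.iterate_succ_apply, ← hT, ← hw]
    have h0 := congrFun hp 0
    exact sub_eq_zero.1 h0
  · obtain ⟨x, hx⟩ := h.2 (fun i => T^[i] z)
    have hi : ∀ i, x i - a (x (i + 1)) = T^[i] z := fun i => congrFun hx i
    have hs : (fun i => x (i + 1)) = fun i => T (x i) := h.1 (by
      funext i
      show x (i + 1) - a (x (i + 1 + 1)) = T (x i) - a (T (x (i + 1)))
      rw [hi, hT, ← map_sub, hi, Function.iterate_succ_apply'])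
    refine ⟨x 0, ?_⟩
    show x 0 - a (T (x 0)) = z
    rw [← congrFun hs 0]
    exact hi 0

/-- Pointwise endomorphism. -/
def piMap (a : H →+ H) : (ℕ → H) →+ (ℕ → H) where
  toFun x i := a (x i)
  map_zero' := by funext i; simp
  map_add' x y := by funext i; simp

/-- The shift. -/
def shift : (ℕ → H) →+ (ℕ → H) where
  toFun x i := x (i + 1)
  map_zero' := rfl
  map_add' _ _ := rfl

lemma Comp.pi (h : Comp a) : Comp (piMap a) := by
  refine ⟨fun x y hxy => ?_, fun y => ?_⟩
  · funext i j
    have h' : (fun i => x i j) = (fun i => y i j) := h.1 (funext fun k => congrFun (congrFun hxy k) j)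
    exact congrFun h' i
  · choose x hx using fun j => h.2 (fun i => y i j)
    exact ⟨fun i j => x j i, funext fun i => funext fun j => congrFun (hx j) i⟩

/-- Multiples. -/
theorem Comp.mul (h : Comp a) (b : H →+ H) (hb : ∀ y, a (b y) = b (a y)) : Comp (a.comp b) :=
  h.pi.bijective_id_sub ((piMap b).comp shift) fun _ => funext fun _ => hb _

/-- Sums. -/
theorem Comp.add (h : Comp a) {b : H →+ H} (h' : Comp b) (hb : ∀ y, a (b y) = b (a y)) :
    Comp (a + b) := by
  let U : (ℕ → H) →+ (ℕ → H) := AddMonoidHom.id _ - (piMap a).comp shift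
  have hU : Function.Bijective U := h
  let e := AddEquiv.ofBijective U hU
  let T : (ℕ → H) →+ (ℕ → H) := shift.comp e.symm.toAddMonoidHom
  have hT : ∀ y, piMap b (T y) = T (piMap b y) := by
    intro y
    obtain ⟨x, rfl⟩ := hU.2 y
    have hb' : piMap b (U x) = U (piMap b x) := funext fun i => by
      show b (x i - a (x (i + 1))) = b (x i) - a (b (x (i + 1)))
      rw [map_sub, hb]
    show piMap b (shift (e.symm (e x))) = shift (e.symm (piMap b (U x)))
    rw [hb', show U (piMap b x) = e (piMap b x) from rfl, AddEquiv.symm_apply_apply, AddEquiv.symm_apply_apply]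
    rfl
  have h₂ := h'.pi.bijective_id_sub T hT
  have heq : (shiftSub (a + b) : (ℕ → H) → (ℕ → H)) = (fun y => y - piMap b (T y)) ∘ U := by
    funext x i
    show x i - (a (x (i + 1)) + b (x (i + 1))) = (U x) i - b ((e.symm (e x)) (i + 1))
    rw [AddEquiv.symm_apply_apply]
    show _ = (x i - a (x (i + 1))) - b (x (i + 1))
    abel
  show Function.Bijective (shiftSub (a + b))
  rw [heq]
  exact h₂.comp hU

/-- Transport along an equivariant isomorphism. -/
theorem comp_iff_of_equiv {H' : Type v} [AddCommGroup H'] {a' : H' →+ H'} (e : H ≃+ H')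
    (he : ∀ x, e (a x) = a' (e x)) : Comp a ↔ Comp a' := by
  let E : (ℕ → H) ≃ (ℕ → H') := Equiv.piCongrRight fun _ => e.toEquiv
  have hE : ∀ x, E (shiftSub a x) = shiftSub a' (E x) := fun x => funext fun i => by
    show e (x i - a (x (i + 1))) = e (x i) - a' (e (x (i + 1)))
    rw [map_sub, he]
  unfold Comp
  rw [← E.comp_bijective (shiftSub a), show (E ∘ shiftSub a) = (shiftSub a' ∘ E) from funext hE,
    E.bijective_comp]

end Groth.Agent.H16Derived.DerCompLib
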