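import Groth.Prelude.Def_DerComp
import Groth.Agent.H16Derived.BLoc.Main
import Groth.Agent.H10Coh.ModGroth

/-!
# Derived completion exists
-/

set_option autoImplicit false
set_option linter.style.haveILetI false

universe u

open CategoryTheory CategoryTheory.Limits Opposite

attribute [local instance] HasDerivedCategory.standard

namespace Groth.Agent.H16Derived.DerCompLib

variable {C : Type u} [SmallCategory C] {J : GrothendieckTopology C} (O : Sheaf J CommRingCat.{u})
  (I : DerComp.IdealSh O)

/-- The index of the test objects. -/
abbrev TestIdx : Type u := Σ U : C, { f : O.obj.obj (op U) // f ∈ I.ideal U }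

/-- The test complexes. -/
noncomputable def test (x : TestIdx O I) : CochainComplex (ModSite.Mod O) ℤ :=
  (CochainComplex.singleFunctor (ModSite.Mod O) 0).obj
    ((ModSite.extZero O x.1).obj (DerComp.awayOver O x.1 x.2.1))

lemma isDerComp_eq : DerComp.IsDerComp O I = BLoc.orthogonal (test O I) := by
  funext K
  exact propext ⟨fun h x => h x.1 x.2.1 x.2.2, fun h U f hf n => h ⟨U, f, hf⟩ n⟩

theorem hasDerCompletion : DerComp.HasDerCompletion O I := by
  haveI := H10Coh.isGrothendieckAbelian_sheafOfModules (ModSite.ringSh O)
  have h := BLoc.isRightAdjoint_ι (test O I)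
  rwa [← isDerComp_eq] at h

end Groth.Agent.H16Derived.DerCompLib
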