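import Groth.Agent.H16Derived.DerComp.Push
import Groth.Agent.H16Derived.DerComp.Local

set_option autoImplicit false
universe u
open CategoryTheory CategoryTheory.Limits Opposite
attribute [local instance] HasDerivedCategory.standard

namespace Groth.Agent.H16Derived.DerCompLib

variable {C : Type u} [SmallCategory C] {J : GrothendieckTopology C} {O O' : Sheaf J CommRingCat.{u}} (φ : O ⟶ O')

noncomputable def scalarRMor : ModSite.RMor O' O where
  fn := 𝟭 C
  exact := (ModSite.RMor.id O).exact
  sharp := φ

noncomputable def pushScalarIso : (scalarRMor φ).push ≅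
    SheafOfModules.restrictScalars.{u} ((sheafCompose J (forget₂ CommRingCat.{u} RingCat.{u})).map φ) :=
  NatIso.ofComponents (fun M => Iso.refl _) (fun f => by ext; rfl)

lemma compAt_iso (U : C) (g : O.obj.obj (op U)) {K K' : DerivedCategory (ModSite.Mod O)} (e : K ≅ K') :
    CompAt O U g K ↔ CompAt O U g K' := by
  rw [← subsingleton_iff_compAt, ← subsingleton_iff_compAt]
  exact forall_congr' fun n => (((shiftFunctor _ n).mapIso e).homToEquiv).subsingleton_congr

theorem isDerComp_restrictScalars (I : DerComp.IdealSh O) (I' : DerComp.IdealSh O')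
    (hI' : DerComp.IsIdealExt φ I I')
    [PreservesFiniteLimits (SheafOfModules.restrictScalars.{u} ((sheafCompose J (forget₂ CommRingCat.{u} RingCat.{u})).map φ))]
    [PreservesFiniteColimits (SheafOfModules.restrictScalars.{u} ((sheafCompose J (forget₂ CommRingCat.{u} RingCat.{u})).map φ))]
    (K' : DerivedCategory (ModSite.Mod O')) :
    DerComp.IsDerComp O' I' K' ↔ DerComp.IsDerComp O I ((SheafOfModules.restrictScalars.{u} ((sheafCompose J (forget₂ CommRingCat.{u} RingCat.{u})).map φ)).mapDerivedCategory.obj K') := by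
  let f := scalarRMor φ
  let R := SheafOfModules.restrictScalars.{u} ((sheafCompose J (forget₂ CommRingCat.{u} RingCat.{u})).map φ)
  let W := HomotopyCategory.quasiIso (ModSite.Mod O') (ComplexShape.up ℤ)
  haveI : PreservesFiniteLimits f.push := preservesFiniteLimits_of_natIso (pushScalarIso φ).symm
  haveI : PreservesFiniteColimits f.push := preservesFiniteColimits_of_natIso (pushScalarIso φ).symm
  let α := f.push.mapDerivedCategoryFactorsh
  haveI hd : f.push.mapDerivedCategory.IsRightDerivedFunctor α.inv W :=
    Functor.isRightDerivedFunctor_of_inverts _ _ α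
  haveI : SiteCmp.HasRpushD f := Functor.HasRightDerivedFunctor.mk' f.push.mapDerivedCategory α.inv
  let e₁ : SiteCmp.RpushD f ≅ f.push.mapDerivedCategory :=
    Functor.rightDerivedUnique _ _ ((SiteCmp.pushKh f).totalRightDerivedUnit DerivedCategory.Qh W) α.inv W
  let e₂ : f.push.mapDerivedCategory.obj K' ≅ R.mapDerivedCategory.obj K' :=
    f.push.mapDerivedCategory.mapIso (DerivedCategory.Q.objObjPreimageIso K').symm ≪≫
      f.push.mapDerivedCategoryFactors.app _ ≪≫
      DerivedCategory.Q.mapIso ((NatIso.mapHomologicalComplex (pushScalarIso φ) _).app _) ≪≫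
      (R.mapDerivedCategoryFactors.app _).symm ≪≫
      R.mapDerivedCategory.mapIso (DerivedCategory.Q.objObjPreimageIso K')
  have key : ∀ (U : C) (g : O.obj.obj (op U)),
      CompAt O U g (R.mapDerivedCategory.obj K') ↔ CompAt O' U ((φ.hom.app (op U)).hom g) K' :=
    fun U g => (compAt_iso U g (e₁.app K' ≪≫ e₂)).symm.trans (compAt_push_iff f U g K')
  rw [isDerComp_iff, isDerComp_iff]
  refine ⟨fun h U g hg => (key U g).2 (h U _ (hI'.1 U g hg)), fun h U g' hg' => ?_⟩
  have hle := hI'.2 (compIdeal O' K') (fun U g hg V k => by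
    have e : (O'.obj.map k.op).hom ((φ.hom.app (op U)).hom g) = (φ.hom.app (op V)).hom ((O.obj.map k.op).hom g) :=
      (congrArg (fun z => z.hom g) (φ.hom.naturality k.op)).symm
    rw [e]
    exact (key V _).1 (h V _ (I.map_mem k hg)))
  have := hle U hg' U (𝟙 U)
  rwa [op_id, CategoryTheory.Functor.map_id] at this

end Groth.Agent.H16Derived.DerCompLib
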