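import Groth.Agent.H16Derived.DerComp.Fibre
import Groth.Agent.H16Derived.ExactRightAdj
import Mathlib.CategoryTheory.Abelian.Refinements
import Mathlib.Algebra.Homology.HomologicalComplexAbelian
import Mathlib.Algebra.Homology.DerivedCategory.ShortExact

/-!
# Localisation at a scalar, its right adjoint and derived limits
-/

set_option autoImplicit false
set_option linter.style.haveILetI false
set_option linter.unusedSectionVars false

universe w v u r

open CategoryTheory CategoryTheory.Limits CategoryTheory.Pretriangulated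

namespace Groth.Agent.H16Derived.DerCompLib

variable {R : Type r} [CommRing R] {A : Type u} [Category.{v} A] [Abelian A] [IsGrothendieckAbelian.{v} A]
  [Linear R A] (r₀ : R)

instance countableShapes : HasColimitsOfShape (Discrete ℕ) A :=
  haveI : HasColimitsOfSize.{0, 0} A := hasColimitsOfSizeShrink.{0, 0, v, v} A
  inferInstance

instance countableProdShapes : HasLimitsOfShape (Discrete ℕ) A :=
  haveI : HasLimitsOfSize.{0, 0} A := hasLimitsOfSizeShrink.{0, 0, v, v} A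
  inferInstance

instance exactCountable : HasExactColimitsOfShape (Discrete ℕ) A := by
  haveI : AB5OfSize.{0, 0} A := AB5OfSize_shrink.{0, 0, v, v} A
  haveI : HasColimitsOfShape (Finset (Discrete ℕ)) A := inferInstance
  haveI : HasExactColimitsOfShape (Finset (Discrete ℕ)) A := AB5OfSize.ofShape _
  haveI : HasFiniteBiproducts A := HasFiniteBiproducts.of_hasFiniteProducts
  exact hasExactColimitsOfShape_discrete_of_hasExactColimitsOfShape_finset_discrete A ℕ

/-- `⊕ X ⟶ ⊕ Y`. -/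
noncomputable def sMap {X Y : A} (f : X ⟶ Y) : (∐ fun _ : ℕ => X) ⟶ ∐ fun _ : ℕ => Y :=
  Sigma.desc fun n => f ≫ Sigma.ι (fun _ : ℕ => Y) n

@[reassoc (attr := simp)]
lemma ι_sMap {X Y : A} (f : X ⟶ Y) (n : ℕ) :
    Sigma.ι (fun _ : ℕ => X) n ≫ sMap f = f ≫ Sigma.ι (fun _ : ℕ => Y) n := Sigma.ι_desc _ _

lemma sMap_id (X : A) : sMap (𝟙 X) = 𝟙 _ := Sigma.hom_ext _ _ fun n => by simp

lemma sMap_comp {X Y Z : A} (f : X ⟶ Y) (g : Y ⟶ Z) : sMap (f ≫ g) = sMap f ≫ sMap g :=
  Sigma.hom_ext _ _ fun n => by simp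

lemma sMap_add {X Y : A} (f g : X ⟶ Y) : sMap (f + g) = sMap f + sMap g :=
  Sigma.hom_ext _ _ fun n => by simp [Preadditive.comp_add]

lemma away_comm {X Y : A} (f : X ⟶ Y) :
    away X (r₀ • 𝟙 X) ≫ sMap f = sMap f ≫ away Y (r₀ • 𝟙 Y) :=
  Sigma.hom_ext _ _ fun n => by simp [away]

/-- Localisation. -/
noncomputable def Loc : A ⥤ A where
  obj F := cokernel (away F (r₀ • 𝟙 F))
  map {X Y} f := cokernel.map _ _ (sMap f) (sMap f) (away_comm r₀ f)
  map_id X := coequalizer.hom_ext (by simp [sMap_id])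
  map_comp f g := coequalizer.hom_ext (by simp [sMap_comp])

lemma π_Loc_map {X Y : A} (f : X ⟶ Y) :
    cokernel.π (away X (r₀ • 𝟙 X)) ≫ (Loc r₀).map f = sMap f ≫ cokernel.π (away Y (r₀ • 𝟙 Y)) :=
  cokernel.π_desc _ _ _

instance : (Loc (A := A) r₀).Additive where
  map_add {X Y f g} := coequalizer.hom_ext ((π_Loc_map r₀ (f + g)).trans
    ((congrArg (· ≫ _) (sMap_add f g)).trans ((Preadditive.add_comp _ _ _ _ _ _).trans
      ((congrArg₂ (· + ·) (π_Loc_map r₀ f).symm (π_Loc_map r₀ g).symm).trans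
        (Preadditive.comp_add _ _ _ _ _ _).symm))))

/-- `∏ X ⟶ ∏ Y`. -/
noncomputable def pMap {X Y : A} (f : X ⟶ Y) : (∏ᶜ fun _ : ℕ => X) ⟶ ∏ᶜ fun _ : ℕ => Y :=
  Pi.lift fun n => Pi.π (fun _ : ℕ => X) n ≫ f

@[reassoc (attr := simp)]
lemma pMap_π {X Y : A} (f : X ⟶ Y) (n : ℕ) :
    pMap f ≫ Pi.π (fun _ : ℕ => Y) n = Pi.π (fun _ : ℕ => X) n ≫ f := Pi.lift_π _ _

lemma pMap_id (X : A) : pMap (𝟙 X) = 𝟙 _ := Pi.hom_ext _ _ fun n => by simp

lemma pMap_comp {X Y Z : A} (f : X ⟶ Y) (g : Y ⟶ Z) : pMap (f ≫ g) = pMap f ≫ pMap g :=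
  Pi.hom_ext _ _ fun n => by simp

lemma pMap_add {X Y : A} (f g : X ⟶ Y) : pMap (f + g) = pMap f + pMap g :=
  Pi.hom_ext _ _ fun n => by simp [Preadditive.comp_add, Preadditive.add_comp]

/-- The map defining the limit. -/
noncomputable def limMap' (F : A) : (∏ᶜ fun _ : ℕ => F) ⟶ ∏ᶜ fun _ : ℕ => F :=
  Pi.lift fun n => Pi.π (fun _ : ℕ => F) n - Pi.π (fun _ : ℕ => F) (n + 1) ≫ (r₀ • 𝟙 F)

lemma limMap'_comm {X Y : A} (f : X ⟶ Y) : limMap' r₀ X ≫ pMap f = pMap f ≫ limMap' r₀ Y :=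
  Pi.hom_ext _ _ fun n => by simp [limMap']

/-- The right adjoint of localisation. -/
noncomputable def Tfun : A ⥤ A where
  obj F := kernel (limMap' r₀ F)
  map {X Y} f := kernel.map _ _ (pMap f) (pMap f) (limMap'_comm r₀ f)
  map_id X := equalizer.hom_ext (by simp [pMap_id])
  map_comp f g := equalizer.hom_ext (by simp [pMap_comp])

lemma Tfun_map_ι {X Y : A} (f : X ⟶ Y) :
    (Tfun r₀).map f ≫ kernel.ι (limMap' r₀ Y) = kernel.ι (limMap' r₀ X) ≫ pMap f :=
  kernel.lift_ι _ _ _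

instance : (Tfun (A := A) r₀).Additive where
  map_add {X Y f g} := equalizer.hom_ext ((Tfun_map_ι r₀ (f + g)).trans
    ((congrArg (_ ≫ ·) (pMap_add f g)).trans ((Preadditive.comp_add _ _ _ _ _ _).trans
      ((congrArg₂ (· + ·) (Tfun_map_ι r₀ f).symm (Tfun_map_ι r₀ g).symm).trans
        (Preadditive.add_comp _ _ _ _ _ _).symm))))

/-- Families of maps. -/
noncomputable def sumProd (X Y : A) : ((∐ fun _ : ℕ => X) ⟶ Y) ≃ (X ⟶ ∏ᶜ fun _ : ℕ => Y) where
  toFun φ := Pi.lift fun n => Sigma.ι (fun _ : ℕ => X) n ≫ φ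
  invFun ψ := Sigma.desc fun n => ψ ≫ Pi.π (fun _ : ℕ => Y) n
  left_inv φ := Sigma.hom_ext _ _ fun n => by simp
  right_inv ψ := Pi.hom_ext _ _ fun n => by simp

lemma sumProd_away (X Y : A) (φ : (∐ fun _ : ℕ => X) ⟶ Y) :
    sumProd X Y (away X (r₀ • 𝟙 X) ≫ φ) = sumProd X Y φ ≫ limMap' r₀ Y :=
  Pi.hom_ext _ _ fun n => by simp [sumProd, limMap', away]

lemma sumProd_zero (X Y : A) : sumProd X Y 0 = 0 := Pi.hom_ext _ _ fun n => by simp [sumProd]

lemma sumProd_comp {X Y Y' : A} (φ : (∐ fun _ : ℕ => X) ⟶ Y) (f : Y ⟶ Y') :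
    sumProd X Y' (φ ≫ f) = sumProd X Y φ ≫ pMap f :=
  Pi.hom_ext _ _ fun n => by simp [sumProd]

lemma sumProd_symm_comp {X' X Y : A} (f : X' ⟶ X) (ψ : X ⟶ ∏ᶜ fun _ : ℕ => Y) :
    (sumProd X' Y).symm (f ≫ ψ) = sMap f ≫ (sumProd X Y).symm ψ :=
  Sigma.hom_ext _ _ fun n => by simp [sumProd]

/-- Maps out of a localisation. -/
noncomputable def locHomEquiv (X Y : A) : ((Loc r₀).obj X ⟶ Y) ≃ (X ⟶ (Tfun r₀).obj Y) where
  toFun g := kernel.lift (limMap' r₀ Y) (sumProd X Y (cokernel.π (away X (r₀ • 𝟙 X)) ≫ g))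
    ((sumProd_away r₀ X Y _).symm.trans ((congrArg (sumProd X Y)
      ((cokernel.condition_assoc (away X (r₀ • 𝟙 X)) g).trans zero_comp)).trans (sumProd_zero X Y)))
  invFun h := cokernel.desc (away X (r₀ • 𝟙 X)) ((sumProd X Y).symm (h ≫ kernel.ι (limMap' r₀ Y)))
    ((sumProd X Y).injective ((sumProd_away r₀ X Y _).trans
      ((congrArg (· ≫ limMap' r₀ Y) ((sumProd X Y).apply_symm_apply _)).trans
        ((Category.assoc _ _ _).trans ((congrArg (h ≫ ·) (kernel.condition _)).trans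
          (comp_zero.trans (sumProd_zero X Y).symm))))))
  left_inv g := coequalizer.hom_ext ((cokernel.π_desc _ _ _).trans
    ((congrArg (sumProd X Y).symm (kernel.lift_ι _ _ _)).trans ((sumProd X Y).symm_apply_apply _)))
  right_inv h := equalizer.hom_ext ((kernel.lift_ι _ _ _).trans
    ((congrArg (sumProd X Y) (cokernel.π_desc _ _ _)).trans ((sumProd X Y).apply_symm_apply _)))

/-- Localisation is left adjoint to the limit. -/
noncomputable def locAdj : Loc (A := A) r₀ ⊣ Tfun r₀ :=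
  Adjunction.mkOfHomEquiv
    { homEquiv := locHomEquiv r₀
      homEquiv_naturality_left_symm := fun {X' X Y} f g => coequalizer.hom_ext
        ((cokernel.π_desc _ _ _).trans ((congrArg (sumProd X' Y).symm (Category.assoc _ _ _)).trans
          ((sumProd_symm_comp f _).trans
            ((congrArg (sMap f ≫ ·) (cokernel.π_desc _ _ _).symm).trans
              ((Category.assoc _ _ _).symm.trans
                ((congrArg (· ≫ _) (π_Loc_map r₀ f).symm).trans (Category.assoc _ _ _)))))))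
      homEquiv_naturality_right := fun {X Y Y'} g f => equalizer.hom_ext
        ((kernel.lift_ι _ _ _).trans ((congrArg (sumProd X Y') (Category.assoc _ _ _).symm).trans
          ((sumProd_comp _ f).trans
            ((congrArg (· ≫ pMap f) (kernel.lift_ι _ _ _).symm).trans
              ((Category.assoc _ _ _).trans
                ((congrArg (_ ≫ ·) (Tfun_map_ι r₀ f).symm).trans (Category.assoc _ _ _).symm)))))) }

theorem preservesFiniteColimits_Loc : PreservesFiniteColimits (Loc (A := A) r₀) :=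
  haveI : PreservesColimitsOfSize.{0, 0} (Loc (A := A) r₀) := (locAdj (A := A) r₀).leftAdjoint_preservesColimits
  PreservesColimitsOfSize.preservesFiniteColimits _

theorem shortExact_sMap {S : ShortComplex A} (hS : S.ShortExact) :
    (ShortComplex.mk (sMap S.f) (sMap S.g) (by
      rw [← sMap_comp, S.zero]
      exact Sigma.hom_ext _ _ fun n => by simp)).ShortExact := by
  let Φ : A ⥤ A := Functor.const (Discrete ℕ) ⋙ colim
  haveI : (Functor.const (Discrete ℕ) : A ⥤ _).Additive := {}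
  haveI : PreservesFiniteLimits (colim : (Discrete ℕ ⥤ A) ⥤ A) :=
    HasExactColimitsOfShape.preservesFiniteLimits
  haveI : PreservesFiniteColimits (colim : (Discrete ℕ ⥤ A) ⥤ A) :=
    haveI : PreservesColimitsOfSize.{0, 0} (colim : (Discrete ℕ ⥤ A) ⥤ A) :=
      colimConstAdj.leftAdjoint_preservesColimits
    PreservesColimitsOfSize.preservesFiniteColimits _
  haveI : Φ.Additive := Functor.additive_of_preserves_binary_products _
  let e (X : A) : Φ.obj X ≅ ∐ fun _ : ℕ => X :=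
    HasColimit.isoOfNatIso (Discrete.natIso fun _ => Iso.refl X)
  have he : ∀ {X Y : A} (f : X ⟶ Y), (e X).hom ≫ sMap f = Φ.map f ≫ (e Y).hom := fun {X Y} f =>
    colimit.hom_ext fun n => by
      simp [Φ, e]
      exact ι_sMap f n.as
  exact ShortComplex.shortExact_of_iso (ShortComplex.isoMk (e S.X₁) (e S.X₂) (e S.X₃) (he S.f) (he S.g))
    (hS.map_of_exact Φ)

theorem preservesFiniteLimits_Loc : PreservesFiniteLimits (Loc (A := A) r₀) := by
  haveI := preservesFiniteColimits_Loc (A := A) r₀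
  refine (Functor.preservesFiniteLimits_iff_forall_exact_map_and_mono _).2 fun S hS => ?_
  haveI := hS.mono_f
  haveI := hS.epi_g
  refine ⟨hS.exact.map_of_epi_of_preservesCokernel _ hS.epi_g inferInstance, ?_⟩
  have hsum := shortExact_sMap hS
  haveI : Mono (sMap S.f) := hsum.mono_f
  rw [Preadditive.mono_iff_cancel_zero]
  intro W x hx
  obtain ⟨W', π, hπ, y, hy⟩ := surjective_up_to_refinements_of_epi (cokernel.π (away S.X₁ (r₀ • 𝟙 S.X₁))) x
  have h₁ : (y ≫ sMap S.f) ≫ cokernel.π (away S.X₂ (r₀ • 𝟙 S.X₂)) = 0 :=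
    (Category.assoc _ _ _).trans ((congrArg (y ≫ ·) (π_Loc_map r₀ S.f).symm).trans
      ((Category.assoc _ _ _).symm.trans ((congrArg (· ≫ (Loc r₀).map S.f) hy.symm).trans
        ((Category.assoc _ _ _).trans ((congrArg (π ≫ ·) hx).trans comp_zero)))))
  have hex : (ShortComplex.mk (away S.X₂ (r₀ • 𝟙 S.X₂)) _ (cokernel.condition _)).Exact :=
    ShortComplex.exact_cokernel _
  obtain ⟨W'', π', hπ', z, hz⟩ := hex.exact_up_to_refinements (y ≫ sMap S.f) h₁
  simp only at hz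
  have h₂ : z ≫ sMap S.g = 0 := by
    rw [← cancel_mono (away S.X₃ (r₀ • 𝟙 S.X₃)), zero_comp, Category.assoc, ← away_comm, ← reassoc_of% hz,
      ← sMap_comp, S.zero, show sMap (0 : S.X₁ ⟶ S.X₃) = 0 from Sigma.hom_ext _ _ fun n => by simp,
      comp_zero, comp_zero]
  obtain ⟨W₃, π'', hπ'', u, hu⟩ := hsum.exact.exact_up_to_refinements z h₂
  simp only at hu
  have h₃ : π'' ≫ π' ≫ y = u ≫ away S.X₁ (r₀ • 𝟙 S.X₁) := by
    rw [← cancel_mono (sMap S.f), Category.assoc, Category.assoc, Category.assoc, away_comm, hz,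
      reassoc_of% hu]
  let q := cokernel.π (away S.X₁ (r₀ • 𝟙 S.X₁))
  have hy' : π ≫ x = y ≫ q := hy
  have h₄ : (π'' ≫ π') ≫ (y ≫ q) = (π'' ≫ π' ≫ y) ≫ q := by simp only [Category.assoc]
  have h₅ : (π'' ≫ π' ≫ y) ≫ q = 0 :=
    (congrArg (· ≫ q) h₃).trans ((Category.assoc _ _ _).trans ((congrArg (u ≫ ·) (cokernel.condition _)).trans comp_zero))
  haveI : Epi (π'' ≫ π') := epi_comp _ _
  refine (cancel_epi π).1 (((cancel_epi (π'' ≫ π')).1 ?_ : π ≫ x = 0).trans comp_zero.symm)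
  exact (congrArg ((π'' ≫ π') ≫ ·) hy').trans (h₄.trans (h₅.trans comp_zero.symm))

/-- On injective objects the limit map is a split epimorphism. -/
theorem epi_limMap' (I : A) [Injective I] : Epi (limMap' r₀ I) := by
  let P := ∏ᶜ fun _ : ℕ => I
  let φ : (∐ fun _ : ℕ => P) ⟶ I := Sigma.desc fun n => Pi.π (fun _ : ℕ => I) n
  let ψ := Injective.factorThru φ (away P (r₀ • 𝟙 P))
  have h : sumProd P I ψ ≫ limMap' r₀ I = 𝟙 _ := by
    rw [← sumProd_away, Injective.comp_factorThru]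
    exact Pi.hom_ext _ _ fun n => by simp [φ, sumProd]
  haveI : Epi (sumProd P I ψ ≫ limMap' r₀ I) := by rw [h]; infer_instance
  exact epi_of_epi (sumProd P I ψ) _

end Groth.Agent.H16Derived.DerCompLib
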