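import Groth.Agent.H16Derived.DerComp.Rlim
import Groth.Agent.H15Site.ModOver
import Groth.Agent.H15Site.ModFlat

/-!
# Tensoring with `O_f` is localisation at `f`
-/

set_option autoImplicit false
set_option linter.style.haveILetI false

universe u

open CategoryTheory CategoryTheory.Limits MonoidalCategory Opposite

namespace Groth.Agent.H16Derived.DerCompLib

open H15Site H15Site.ModTensor

attribute [local instance 10000] SiteInst.hasSheafifySite SiteInst.hasWeakSheafifySite

variable {C : Type u} [SmallCategory C] {J : GrothendieckTopology C} (O : Sheaf J CommRingCat.{u})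

/-- `O ⊗ X ≅ X`. -/
noncomputable def unitTens (X : ModSite.Mod O) :
    ((ModSite.tensorBi O).obj (ModSite.unit O)).obj X ≅ X := (ModOver.tensorUnitIso O).app X

lemma smul_leftUnitor (s : DerComp.GSec O) (X : ModSite.Mod O) :
    (forg O).map (DerComp.smulEnd s (ModSite.unit O)) ▷ (forg O).obj X ≫ (λ_ ((forg O).obj X)).hom =
      (λ_ ((forg O).obj X)).hom ≫ (forg O).map (DerComp.smulEnd s X) := by
  refine PresheafOfModules.hom_ext fun Z => ModuleCat.MonoidalCategory.tensor_ext fun r x => ?_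
  show ((s.1 Z.unop : O.obj.obj Z) * (show O.obj.obj Z from r)) • (show ((forg O).obj X).obj Z from x) =
    (s.1 Z.unop : O.obj.obj Z) • ((show O.obj.obj Z from r) • (show ((forg O).obj X).obj Z from x))
  exact mul_smul _ _ _

lemma smul_unitTens (s : DerComp.GSec O) (X : ModSite.Mod O) :
    ((ModSite.tensorBi O).map (DerComp.smulEnd s (ModSite.unit O))).app X ≫ (unitTens O X).hom =
      (unitTens O X).hom ≫ DerComp.smulEnd s X := by
  show (aSh O).map ((forg O).map (DerComp.smulEnd s (ModSite.unit O)) ▷ (forg O).obj X) ≫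
      (aSh O).map (λ_ ((forg O).obj X)).hom ≫ (adj O).counit.app X =
    ((aSh O).map (λ_ ((forg O).obj X)).hom ≫ (adj O).counit.app X) ≫ DerComp.smulEnd s X
  refine (Category.assoc _ _ _).symm.trans ((congrArg (· ≫ (adj O).counit.app X)
    (((aSh O).map_comp _ _).symm.trans ((congrArg (aSh O).map (smul_leftUnitor O s X)).trans ((aSh O).map_comp _ _)))).trans ?_)
  exact (Category.assoc _ _ _).trans
    ((congrArg (_ ≫ ·) ((adj O).counit.naturality (DerComp.smulEnd s X))).trans (Category.assoc _ _ _).symm)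

variable (s : DerComp.GSec O)

/-- The summand maps `X ⟶ O_f ⊗ X`. -/
noncomputable def tensInj (X : ModSite.Mod O) (n : ℕ) :
    X ⟶ ((ModSite.tensorBi O).obj (DerComp.locAway s (ModSite.unit O))).obj X :=
  (unitTens O X).inv ≫
    (tR X).map (Sigma.ι (fun _ : ℕ => ModSite.unit O) n ≫ cokernel.π (DerComp.awayMap s (ModSite.unit O)))

lemma smul_unitTens_inv (X : ModSite.Mod O) :
    DerComp.smulEnd s X ≫ (unitTens O X).inv =
      (unitTens O X).inv ≫ (tR X).map (DerComp.smulEnd s (ModSite.unit O)) := by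
  rw [Iso.comp_inv_eq, Category.assoc]
  exact ((Iso.inv_hom_id_assoc (unitTens O X) _).symm.trans (congrArg ((unitTens O X).inv ≫ ·) (smul_unitTens O s X).symm))

variable [IsGrothendieckAbelian.{u} (ModSite.Mod O)]

lemma smul_id_eq' (X : ModSite.Mod O) : s • 𝟙 X = DerComp.smulEnd s X := by
  rw [DerComp.smul_def, Category.comp_id]

/-- The coproduct comparison. -/
noncomputable def tensSum (X : ModSite.Mod O) :
    (∐ fun _ : ℕ => X) ≅ (tR X).obj (∐ fun _ : ℕ => ModSite.unit O) :=
  haveI := preservesColimits_tR X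
  haveI : PreservesColimitsOfSize.{0, 0} (tR X) := preservesColimitsOfSize_shrink.{0, u, 0, u} _
  Sigma.mapIso (fun _ : ℕ => (unitTens O X).symm) ≪≫
    @asIso _ _ _ _ (sigmaComparison (tR X) fun _ : ℕ => ModSite.unit O) inferInstance

lemma ι_tensSum (X : ModSite.Mod O) (n : ℕ) :
    Sigma.ι (fun _ : ℕ => X) n ≫ (tensSum O X).hom =
      (unitTens O X).inv ≫ (tR X).map (Sigma.ι (fun _ : ℕ => ModSite.unit O) n) := by
  simp [tensSum]
  exact ι_comp_sigmaComparison (tR X) (fun _ : ℕ => ModSite.unit O) n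

lemma away_tensSum (X : ModSite.Mod O) :
    away X (s • 𝟙 X) ≫ (tensSum O X).hom =
      (tensSum O X).hom ≫ (tR X).map (DerComp.awayMap s (ModSite.unit O)) := by
  haveI := additive_tR X
  refine Sigma.hom_ext _ _ fun n => ?_
  have h₁ : Sigma.ι (fun _ : ℕ => X) n ≫ away X (s • 𝟙 X) =
      Sigma.ι (fun _ : ℕ => X) n - DerComp.smulEnd s X ≫ Sigma.ι (fun _ : ℕ => X) (n + 1) := by
    rw [← smul_id_eq']; exact Sigma.ι_desc _ _
  have h₂ : Sigma.ι (fun _ : ℕ => ModSite.unit O) n ≫ DerComp.awayMap s (ModSite.unit O) =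
      Sigma.ι (fun _ : ℕ => ModSite.unit O) n -
        DerComp.smulEnd s (ModSite.unit O) ≫ Sigma.ι (fun _ : ℕ => ModSite.unit O) (n + 1) := Sigma.ι_desc _ _
  rw [reassoc_of% h₁, Preadditive.sub_comp, Category.assoc, ι_tensSum, ι_tensSum, reassoc_of% (ι_tensSum O X n),
    ← Category.assoc (DerComp.smulEnd s X), smul_unitTens_inv, Category.assoc, ← Functor.map_comp,
    ← Functor.map_comp, h₂, Functor.map_sub, Preadditive.comp_sub]

/-- `O_f ⊗ X` is the localisation of `X`. -/
noncomputable def locTensorApp (X : ModSite.Mod O) :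
    (Loc s).obj X ≅ ((ModSite.tensorBi O).obj (DerComp.locAway s (ModSite.unit O))).obj X :=
  haveI := additive_tR X
  haveI := preservesFiniteColimits_tR X
  cokernel.mapIso (away X (s • 𝟙 X)) ((tR X).map (DerComp.awayMap s (ModSite.unit O)))
      (tensSum O X) (tensSum O X) (away_tensSum O s X) ≪≫
    (PreservesCokernel.iso (tR X) (DerComp.awayMap s (ModSite.unit O))).symm

lemma π_locTensorApp (X : ModSite.Mod O) (n : ℕ) :
    Sigma.ι (fun _ : ℕ => X) n ≫ cokernel.π (away X (s • 𝟙 X)) ≫ (locTensorApp O s X).hom = tensInj O s X n := by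
  haveI := additive_tR X
  haveI := preservesFiniteColimits_tR X
  rw [tensInj, Functor.map_comp, ← Category.assoc (unitTens O X).inv, ← ι_tensSum, Category.assoc]
  refine congrArg (Sigma.ι (fun _ : ℕ => X) n ≫ ·) ?_
  let e := PreservesCokernel.iso (tR X) (DerComp.awayMap s (ModSite.unit O))
  have he : cokernel.π ((tR X).map (DerComp.awayMap s (ModSite.unit O))) ≫ e.inv =
      (tR X).map (cokernel.π (DerComp.awayMap s (ModSite.unit O))) := by
    rw [Iso.comp_inv_eq]
    exact (PreservesCokernel.π_iso_hom (tR X) (DerComp.awayMap s (ModSite.unit O))).symm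
  have hm : cokernel.π (away X (s • 𝟙 X)) ≫ cokernel.map (away X (s • 𝟙 X))
      ((tR X).map (DerComp.awayMap s (ModSite.unit O))) (tensSum O X).hom (tensSum O X).hom (away_tensSum O s X) =
      (tensSum O X).hom ≫ cokernel.π _ := cokernel.π_desc _ _ _
  exact (Category.assoc _ _ _).symm.trans ((congrArg (· ≫ e.inv) hm).trans
    ((Category.assoc _ _ _).trans (congrArg ((tensSum O X).hom ≫ ·) he)))

/-- `O_f ⊗ -` is localisation. -/
noncomputable def locTensor :
    Loc s ≅ (ModSite.tensorBi O).obj (DerComp.locAway s (ModSite.unit O)) :=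
  NatIso.ofComponents (locTensorApp O s) fun {X Y} f => by
    refine coequalizer.hom_ext (Sigma.hom_ext _ _ fun n => ?_)
    show Sigma.ι (fun _ : ℕ => X) n ≫ cokernel.π (away X (s • 𝟙 X)) ≫ (Loc s).map f ≫ (locTensorApp O s Y).hom =
      Sigma.ι (fun _ : ℕ => X) n ≫ cokernel.π (away X (s • 𝟙 X)) ≫ (locTensorApp O s X).hom ≫ _
    refine (congrArg (Sigma.ι (fun _ : ℕ => X) n ≫ ·) ((Category.assoc _ _ _).symm.trans
      ((congrArg (· ≫ (locTensorApp O s Y).hom) (π_Loc_map (A := ModSite.Mod O) s f)).trans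
        (Category.assoc _ _ _)))).trans ?_
    refine ((Category.assoc _ _ _).symm.trans ((congrArg (· ≫ _) (ι_sMap f n)).trans (Category.assoc _ _ _))).trans ?_
    refine (congrArg (f ≫ ·) (π_locTensorApp O s Y n)).trans (Eq.symm ?_)
    refine (((congrArg (Sigma.ι (fun _ : ℕ => X) n ≫ ·) (Category.assoc _ _ _).symm).trans
      (Category.assoc _ _ _).symm).trans ((congrArg (· ≫ _) (π_locTensorApp O s X n)).trans (Category.assoc _ _ _))).trans
      (Eq.symm ?_)
    let T := (ModSite.tensorBi O)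
    let k := Sigma.ι (fun _ : ℕ => ModSite.unit O) n ≫ cokernel.π (DerComp.awayMap s (ModSite.unit O))
    have h₁ : f ≫ (unitTens O Y).inv = (unitTens O X).inv ≫ (T.obj (ModSite.unit O)).map f :=
      (ModOver.tensorUnitIso O).inv.naturality f
    show f ≫ (unitTens O Y).inv ≫ (T.map k).app Y = (unitTens O X).inv ≫ (T.map k).app X ≫ (T.obj _).map f
    rw [reassoc_of% h₁, NatTrans.naturality]

end Groth.Agent.H16Derived.DerCompLib
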