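import Groth.Agent.H15Site.ModKFlat
import Groth.Agent.H15Site.ModOver
import Groth.Agent.H16Derived.KFlat.Generic
import Groth.Agent.H16Derived.KFlat.Single
import Groth.Agent.H16Derived.LeftDer
import Groth.Agent.H16Derived.DerComp.TensorAway
import Groth.Prelude.Def_KFlatSite

/-!
# The derived tensor product on a ringed site, computed on free modules
-/

set_option autoImplicit false
set_option linter.style.haveILetI false

universe v v' v'' u u' u''

open CategoryTheory CategoryTheory.Limits

namespace Groth.Agent.H16Derived.DerCompLib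

section Gen

variable {A : Type u} [Category.{v} A] [Abelian A] {B : Type u'} [Category.{v'} B] [Abelian B]
  {C : Type u''} [Category.{v''} C] [Abelian C] [HasCountableCoproducts C]
  (F : A ⥤ B ⥤ C) [F.Additive] [∀ a, (F.obj a).Additive]

/-- `F(G, W) ≅ Tot F(G[0], W)`. -/
noncomputable def singleLeftApp (W : CochainComplex B ℤ) (G : A) :
    ((F.obj G).mapHomologicalComplex (ComplexShape.up ℤ)).obj W ≅
      (F.map₂CochainComplex.obj ((HomologicalComplex.single A (ComplexShape.up ℤ) 0).obj G)).obj W :=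
  (NatIso.mapHomologicalComplex (F.mapIso (HomologicalComplex.singleObjXSelf (ComplexShape.up ℤ) 0 G).symm)
      (ComplexShape.up ℤ)).app W ≪≫
    KFlat.singleLeftIso F _ W fun p hp => HomologicalComplex.isZero_single_obj_X (ComplexShape.up ℤ) 0 G p hp

lemma singleLeftApp_natural (W : CochainComplex B ℤ) {G G' : A} (φ : G ⟶ G') :
    (NatTrans.mapHomologicalComplex (F.map φ) (ComplexShape.up ℤ)).app W ≫ (singleLeftApp F W G').hom =
      (singleLeftApp F W G).hom ≫
        (F.map₂CochainComplex.map ((HomologicalComplex.single A (ComplexShape.up ℤ) 0).map φ)).app W := by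
  refine HomologicalComplex.hom_ext _ _ fun q => ?_
  let G₀ := (HomologicalComplex.single A (ComplexShape.up ℤ) 0).obj G
  let G₀' := (HomologicalComplex.single A (ComplexShape.up ℤ) 0).obj G'
  let ψ := (HomologicalComplex.single A (ComplexShape.up ℤ) 0).map φ
  show (F.map φ).app (W.X q) ≫ (F.map (HomologicalComplex.singleObjXSelf (ComplexShape.up ℤ) 0 G').inv).app (W.X q) ≫
      HomologicalComplex.ιMapBifunctor G₀' W F (ComplexShape.up ℤ) 0 q q (zero_add q) =
    ((F.map (HomologicalComplex.singleObjXSelf (ComplexShape.up ℤ) 0 G).inv).app (W.X q) ≫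
      HomologicalComplex.ιMapBifunctor G₀ W F (ComplexShape.up ℤ) 0 q q (zero_add q)) ≫
      ((F.map₂CochainComplex.map ψ).app W).f q
  have h : HomologicalComplex.ιMapBifunctor G₀ W F (ComplexShape.up ℤ) 0 q q (zero_add q) ≫
      ((F.map₂CochainComplex.map ψ).app W).f q =
      (F.map (ψ.f 0)).app (W.X q) ≫ (F.obj (G₀'.X 0)).map ((𝟙 W : W ⟶ W).f q) ≫
        HomologicalComplex.ιMapBifunctor G₀' W F (ComplexShape.up ℤ) 0 q q (zero_add q) :=
    HomologicalComplex.ι_mapBifunctorMap ψ (𝟙 W) F (ComplexShape.up ℤ) 0 q q (zero_add q)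
  refine Eq.trans ?_ ((Category.assoc _ _ _).trans ((congrArg (_ ≫ ·) h).trans
    (congrArg (_ ≫ ·) (congrArg (_ ≫ ·) ((congrArg (· ≫ _) ((F.obj (G₀'.X 0)).map_id (W.X q))).trans
      (Category.id_comp _)))))).symm
  refine (Category.assoc _ _ _).symm.trans ((congrArg (· ≫ _) ?_).trans (Category.assoc _ _ _))
  refine (NatTrans.congr_app ((F.map_comp _ _).symm.trans ((congrArg F.map ?_).trans (F.map_comp _ _))) (W.X q))
  show φ ≫ _ = _ ≫ ψ.f 0
  simp [ψ, HomologicalComplex.single_map_f_self]

end Gen

end Groth.Agent.H16Derived.DerCompLib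

namespace Groth.Agent.H16Derived.DerCompLib

open Opposite H15Site H15Site.ModTensor H15Site.ModKFlat

attribute [local instance] HasDerivedCategory.standard
attribute [local instance 10000] SiteInst.hasSheafifySite SiteInst.hasWeakSheafifySite

variable {C : Type u} [SmallCategory C] {J : GrothendieckTopology C} (O : Sheaf J CommRingCat.{u})

lemma flip_single_isKFlat (G : ModSite.Mod O) (hG : ModSite.IsFlat G) :
    KFlat.IsKFlat (ModSite.tensorBi O).flip ((HomologicalComplex.single (ModSite.Mod O) (ComplexShape.up ℤ) 0).obj G) := by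
  haveI := ModKFlat.countableAB4 (O := O)
  refine KFlat.isKFlat_of_singleDegree _ 0
    (fun q hq => HomologicalComplex.isZero_single_obj_X _ _ _ _ hq) ?_
  exact isFlatObj_flip _ (isFlat_of_iso (HomologicalComplex.singleObjXSelf (ComplexShape.up ℤ) 0 G).symm hG)

lemma quasiIso_tensor_map {L L' : CochainComplex (ModSite.Mod O) ℤ} (φ : L ⟶ L') [QuasiIso φ]
    (hL : KFlat.IsKFlat (ModSite.tensorBi O).flip L) (hL' : KFlat.IsKFlat (ModSite.tensorBi O).flip L')
    (E : CochainComplex (ModSite.Mod O) ℤ) : QuasiIso (((ModSite.tensorCx O).map φ).app E) := by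
  haveI := ModKFlat.countableAB4 (O := O)
  haveI := (quasiIso_resψ E).1
  exact KFlat.quasiIso_left_map' (ModSite.tensorBi O) φ hL hL' (resψ E) (isKFlat_res E)

/-- The functorial resolution. -/
noncomputable abbrev resFun : CochainComplex (ModSite.Mod O) ℤ ⥤ CochainComplex (ModSite.Mod O) ℤ :=
  KFlat.Res.P (cover O) (coverπ O)

/-- The counit is invertible on complexes K-flat on the left. -/
theorem isIso_LTensorCx_counit (P : CochainComplex (ModSite.Mod O) ℤ) [ModSite.HasLTensorCx P]
    (K : CochainComplex (ModSite.Mod O) ℤ) (hK : KFlat.IsKFlat (ModSite.tensorBi O).flip K) :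
    IsIso (((ModSite.tensorCxQ P).totalLeftDerivedCounit DerivedCategory.Q
      (HomologicalComplex.quasiIso (ModSite.Mod O) (ComplexShape.up ℤ))).app K) := by
  have hinv : ∀ G, HomologicalComplex.quasiIso (ModSite.Mod O) (ComplexShape.up ℤ)
      ((KFlat.Res.ψ (cover O) (coverπ O)).app G) := fun G => (quasiIso_resψ G).1
  have hQ : ∀ {G G' : CochainComplex (ModSite.Mod O) ℤ} (φ : G ⟶ G'), QuasiIso φ → IsIso (DerivedCategory.Q.map φ) :=
    fun φ h => Localization.inverts DerivedCategory.Q (HomologicalComplex.quasiIso _ _) φ h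
  refine LeftDer.isIso_counit _ DerivedCategory.Q (F := ModSite.tensorCxQ P) (ψ := KFlat.Res.ψ (cover O) (coverπ O)) hinv
    (fun G G' φ (hφ : QuasiIso φ) => ?_) (fun G => ?_) _ _ K ?_
  · haveI : QuasiIso φ := hφ
    haveI := (quasiIso_resψ G).1
    haveI := (quasiIso_resψ G').1
    haveI : QuasiIso ((resFun O).map φ ≫ resψ G') := by
      rw [(KFlat.Res.ψ (cover O) (coverπ O)).naturality φ]
      exact quasiIso_comp (resψ G) φ
    haveI : QuasiIso ((resFun O).map φ) := quasiIso_of_comp_right ((resFun O).map φ) (resψ G')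
    exact hQ _ (quasiIso_tensor_map O ((resFun O).map φ) (isKFlat_flip_res G) (isKFlat_flip_res G') P)
  · haveI := (quasiIso_resψ (res G)).1
    exact hQ _ (quasiIso_tensor_map O (resψ (res G)) (isKFlat_flip_res _) (isKFlat_flip_res G) P)
  · haveI := (quasiIso_resψ K).1
    exact hQ _ (quasiIso_tensor_map O (resψ K) (isKFlat_flip_res K) hK P)

lemma smul_freeOnTensor (W : C) (s : DerComp.GSec (O.over W)) (N : ModSite.Mod O) :
    ((ModSite.tensorBi O).map ((ModSite.extZero O W).map (DerComp.smulEnd s (ModSite.unit (O.over W))))).app N ≫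
        (ModOver.freeOnTensor O W).hom.app N =
      (ModOver.freeOnTensor O W).hom.app N ≫
        (ModSite.extZero O W).map (DerComp.smulEnd s ((ModSite.restr O W).obj N)) := by
  let Z := ModSite.extZero O W
  let N' := (ModSite.restr O W).obj N
  let k := DerComp.smulEnd s (ModSite.unit (O.over W))
  let p := (ModOver.extProjL O W N).app (ModSite.unit (O.over W))
  let q := (unitTens (O.over W) N').hom
  have hh : (ModOver.freeOnTensor O W).hom.app N = p.inv ≫ Z.map q := by
    refine Eq.trans ?_ (congrArg (p.inv ≫ ·) (Category.comp_id _))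
    refine congrArg (· ≫ _) ?_
    show ((ModOver.extProjR O W (ModSite.unit (O.over W))).app N).inv = p.inv
    refine congrArg Iso.inv (Iso.ext ?_)
    exact Category.assoc _ _ _
  have hp : Z.map ((tR N').map k) ≫ p.hom = p.hom ≫ (tR N).map (Z.map k) :=
    (ModOver.extProjL O W N).hom.naturality k
  have hp' : (tR N).map (Z.map k) ≫ p.inv = p.inv ≫ Z.map ((tR N').map k) := by
    rw [Iso.comp_inv_eq, Category.assoc]
    exact (Iso.inv_hom_id_assoc p _).symm.trans (congrArg (p.inv ≫ ·) hp.symm)
  have hq : Z.map ((tR N').map k) ≫ Z.map q = Z.map q ≫ Z.map (DerComp.smulEnd s N') :=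
    (Z.map_comp _ _).symm.trans ((congrArg Z.map (smul_unitTens (O.over W) s N')).trans (Z.map_comp _ _))
  show (tR N).map (Z.map k) ≫ _ = _
  rw [hh]
  exact (Category.assoc _ _ _).symm.trans ((congrArg (· ≫ Z.map q) hp').trans ((Category.assoc _ _ _).trans
    ((congrArg (p.inv ≫ ·) hq).trans (Category.assoc _ _ _).symm)))

end Groth.Agent.H16Derived.DerCompLib
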