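import Groth.Agent.H16Derived.DerComp.Away
import Groth.Agent.H16Derived.DerComp.Exists
import Groth.Agent.H15Site.FreeOn
import Groth.Agent.H15Site.SiteGenInst

/-!
# Free modules with multiplication by a section
-/

set_option autoImplicit false
set_option linter.style.haveILetI false

universe u

open CategoryTheory CategoryTheory.Limits Opposite

attribute [local instance] HasDerivedCategory.standard

namespace Groth.Agent.H16Derived.DerCompLib

variable {C : Type u} [SmallCategory C] {J : GrothendieckTopology C} (O : Sheaf J CommRingCat.{u})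

/-- Multiplication by `f ∈ O(U)` on sections over `U`. -/
noncomputable def smulSect {U : C} (f : O.obj.obj (op U)) {F : ModSite.Mod O} (x : ModSite.sect F U) :
    ModSite.sect F U :=
  (show (ModSite.ringSh O).obj.obj (op U) from f) • x

lemma smulSect_zero {U : C} {F : ModSite.Mod O} (x : ModSite.sect F U) :
    smulSect O (0 : O.obj.obj (op U)) x = 0 :=
  zero_smul ((ModSite.ringSh O).obj.obj (op U)) x

lemma smulSect_add {U : C} (f g : O.obj.obj (op U)) {F : ModSite.Mod O} (x : ModSite.sect F U) :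
    smulSect O (f + g) x = smulSect O f x + smulSect O g x :=
  add_smul (R := (ModSite.ringSh O).obj.obj (op U)) _ _ x

lemma smulSect_mul {U : C} (f g : O.obj.obj (op U)) {F : ModSite.Mod O} (x : ModSite.sect F U) :
    smulSect O (f * g) x = smulSect O f (smulSect O g x) :=
  mul_smul (α := (ModSite.ringSh O).obj.obj (op U)) _ _ x

/-- The pair `(G, φ)` is the free module on `U` with multiplication by `f`. -/
structure FreeEndo (U : C) (f : O.obj.obj (op U)) (G : ModSite.Mod O) (φ : G ⟶ G) where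
  /-- maps out are sections -/
  e : ∀ F : ModSite.Mod O, (G ⟶ F) ≃ ModSite.sect F U
  nat : ∀ {F F' : ModSite.Mod O} (x : G ⟶ F) (h : F ⟶ F'), e F' (x ≫ h) = (h.val.app (op U)).hom (e F x)
  endo : ∀ {F : ModSite.Mod O} (x : G ⟶ F), e F (φ ≫ x) = smulSect O f (e F x)

variable {O}

namespace FreeEndo

variable {U : C} {f : O.obj.obj (op U)} {G G' : ModSite.Mod O} {φ : G ⟶ G} {φ' : G' ⟶ G'}

lemma e_fac (P : FreeEndo O U f G φ) {F F' : ModSite.Mod O} (x : G ⟶ F) (h : F ⟶ F') :
    x ≫ h = (P.e F').symm ((h.val.app (op U)).hom (P.e F x)) :=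
  (P.e F').injective ((P.nat x h).trans ((P.e F').apply_symm_apply _).symm)

lemma exists_iso (P : FreeEndo O U f G φ) (P' : FreeEndo O U f G' φ') :
    ∃ i : G ≅ G', φ ≫ i.hom = i.hom ≫ φ' := by
  let a : G ⟶ G' := (P.e G').symm (P'.e G' (𝟙 G'))
  let b : G' ⟶ G := (P'.e G).symm (P.e G (𝟙 G))
  have ha : ∀ {F : ModSite.Mod O} (x : G' ⟶ F), P.e F (a ≫ x) = P'.e F x := fun {F} x => by
    rw [P.nat, Equiv.apply_symm_apply, ← P'.nat, Category.id_comp]
  have hb : ∀ {F : ModSite.Mod O} (x : G ⟶ F), P'.e F (b ≫ x) = P.e F x := fun {F} x => by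
    rw [P'.nat, Equiv.apply_symm_apply, ← P.nat, Category.id_comp]
  refine ⟨⟨a, b, ?_, ?_⟩, ?_⟩
  · exact (P.e G).injective ((ha b).trans ((P'.e G).apply_symm_apply _))
  · exact (P'.e G').injective ((hb a).trans ((P.e G').apply_symm_apply _))
  · apply (P.e G').injective
    show P.e G' (φ ≫ a) = P.e G' (a ≫ φ')
    rw [P.endo, ha]
    exact (congrArg (smulSect O f) ((P.e G').apply_symm_apply _)).trans
      ((P'.endo (𝟙 G')).symm.trans (congrArg _ (Category.comp_id φ')))

end FreeEndo

variable (O)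

/-- Multiplication by `f` on `j_{U!} O_U`. -/
noncomputable def θ (U : C) (f : O.obj.obj (op U)) : ModSite.freeOn O U ⟶ ModSite.freeOn O U :=
  (ModSite.extZero O U).map (DerComp.smulEnd (DerComp.GSec.ofSect O U f) (ModSite.unit (O.over U)))

/-- `j_{U!} O_U` is free on `U`. -/
noncomputable def freeEndoθ (U : C) (f : O.obj.obj (op U)) :
    FreeEndo O U f (ModSite.freeOn O U) (θ O U f) where
  e F := (H15Site.FreeOn.homEquiv O U F).toEquiv
  nat x h := H15Site.FreeOn.homEquiv_comp O U h x
  endo {F} x := by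
    show H15Site.FreeOn.unitTopEquiv O U _
        ((ModSite.extZeroAdj O U).homEquiv (ModSite.unit (O.over U)) F (θ O U f ≫ x)) =
      smulSect O f (H15Site.FreeOn.unitTopEquiv O U _ ((ModSite.extZeroAdj O U).homEquiv _ F x))
    rw [θ, Adjunction.homEquiv_naturality_left, DerComp.smulEnd_comm]
    show (DerComp.GSec.val' (DerComp.GSec.ofSect O U f) (op (Over.mk (𝟙 U)))) •
        H15Site.FreeOn.unitTopEquiv O U _ ((ModSite.extZeroAdj O U).homEquiv _ F x) = _
    refine congrArg (· • (H15Site.FreeOn.unitTopEquiv O U _ ((ModSite.extZeroAdj O U).homEquiv _ F x))) ?_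
    show (O.obj.map (𝟙 U).op).hom f = f
    rw [op_id, CategoryTheory.Functor.map_id]
    rfl

/-- The sheafified free module is free. -/
noncomputable def freeEndoGen (U : C) (f : O.obj.obj (op U)) :
    FreeEndo O U f ((H15Site.SiteGenInst.freeModFunctor O).obj U)
      ((H15Site.SiteGenInst.eMod O U _).symm
        (smulSect O f (H15Site.SiteGenInst.eMod O U _ (𝟙 _)))) where
  e F := H15Site.SiteGenInst.eMod O U F
  nat x h := H15Site.SiteGenInst.eMod_naturality_right O x h
  endo {F} x := by
    refine (H15Site.SiteGenInst.eMod_naturality_right O _ x).trans ?_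
    rw [Equiv.apply_symm_apply]
    refine ((x.val.app (op U)).hom.map_smul _ _).trans ?_
    refine congrArg (smulSect O f) ((H15Site.SiteGenInst.eMod_naturality_right O (𝟙 _) x).symm.trans ?_)
    exact congrArg _ (Category.id_comp x)

lemma θ_zero (U : C) : θ O U 0 = 0 := by
  apply ((freeEndoθ O U 0).e _).injective
  refine ((congrArg _ (Category.comp_id _).symm).trans ((freeEndoθ O U 0).endo _)).trans ?_
  refine (smulSect_zero O _).trans ?_
  exact (H15Site.FreeOn.homEquiv O U _).map_zero.symm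

lemma θ_add (U : C) (f g : O.obj.obj (op U)) : θ O U (f + g) = θ O U f + θ O U g := by
  apply ((freeEndoθ O U 0).e _).injective
  have h : ∀ a, H15Site.FreeOn.homEquiv O U _ (θ O U a) = smulSect O a (H15Site.FreeOn.homEquiv O U _ (𝟙 _)) :=
    fun a => (congrArg _ (Category.comp_id _).symm).trans ((freeEndoθ O U a).endo _)
  show H15Site.FreeOn.homEquiv O U _ _ = H15Site.FreeOn.homEquiv O U _ _
  rw [map_add, h, h, h]
  exact smulSect_add O _ _ _

lemma θ_mul (U : C) (f g : O.obj.obj (op U)) : θ O U (f * g) = θ O U f ≫ θ O U g := by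
  apply ((freeEndoθ O U 0).e _).injective
  have h : ∀ a, H15Site.FreeOn.homEquiv O U _ (θ O U a) = smulSect O a (H15Site.FreeOn.homEquiv O U _ (𝟙 _)) :=
    fun a => (congrArg _ (Category.comp_id _).symm).trans ((freeEndoθ O U a).endo _)
  show H15Site.FreeOn.homEquiv O U _ _ = H15Site.FreeOn.homEquiv O U _ _
  rw [h]
  refine Eq.trans ?_ ((freeEndoθ O U f).endo _).symm
  show _ = smulSect O f (H15Site.FreeOn.homEquiv O U _ (θ O U g))
  rw [h]
  exact smulSect_mul O _ _ _

lemma precomp_apply {A : Type*} [Category A] [Abelian A] [HasDerivedCategory A]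
    {X X' Y : DerivedCategory A} (h : X ⟶ X') (x : X' ⟶ Y) : precomp h x = h ≫ x := rfl

/-- `(G, φ)` is complete in `K`. -/
def CompFor {A : Type*} [Category A] [Abelian A] [HasDerivedCategory A] (G : A) (φ : G ⟶ G)
    (K : DerivedCategory A) : Prop :=
  ∀ n : ℤ, Comp (precomp (Y := K⟦n⟧) ((S0 (A := A)).map φ))

lemma compFor_iff_of_iso {A : Type*} [Category A] [Abelian A] [HasDerivedCategory A] {G G' : A}
    {φ : G ⟶ G} {φ' : G' ⟶ G'} (i : G ≅ G') (hi : φ ≫ i.hom = i.hom ≫ φ') (K : DerivedCategory A) :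
    CompFor G φ K ↔ CompFor G' φ' K := by
  refine forall_congr' fun n => (comp_iff_of_equiv
    { toFun := fun x => (S0 (A := A)).map i.hom ≫ x
      invFun := fun x => (S0 (A := A)).map i.inv ≫ x
      left_inv := fun x => by simp [← Functor.map_comp_assoc]
      right_inv := fun x => by simp [← Functor.map_comp_assoc]
      map_add' := fun x y => Preadditive.comp_add _ _ _ _ _ _ } fun x => ?_).symm
  show (S0 (A := A)).map i.hom ≫ (S0 (A := A)).map φ' ≫ x = (S0 (A := A)).map φ ≫ (S0 (A := A)).map i.hom ≫ x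
  rw [← Functor.map_comp_assoc, ← Functor.map_comp_assoc, hi]

/-- `K` is complete at `(U, f)`. -/
def CompAt (U : C) (f : O.obj.obj (op U)) (K : DerivedCategory (ModSite.Mod O)) : Prop :=
  CompFor (ModSite.freeOn O U) (θ O U f) K

lemma FreeEndo.compFor_iff {U : C} {f : O.obj.obj (op U)} {G : ModSite.Mod O} {φ : G ⟶ G}
    (P : FreeEndo O U f G φ) (K : DerivedCategory (ModSite.Mod O)) : CompFor G φ K ↔ CompAt O U f K := by
  obtain ⟨i, hi⟩ := P.exists_iso (freeEndoθ O U f)
  exact compFor_iff_of_iso i hi K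

/-- The test object is the telescope of `θ`. -/
lemma exists_iso_telescope [IsGrothendieckAbelian.{u} (ModSite.Mod O)] (U : C) (f : O.obj.obj (op U)) :
    Nonempty ((ModSite.extZero O U).obj (DerComp.awayOver O U f) ≅
      cokernel (away (ModSite.freeOn O U) (θ O U f))) := by
  haveI := H15Site.ModOver.preservesColimits_extZero O U
  let Z := ModSite.extZero O U
  let E : (∐ fun _ : ℕ => ModSite.freeOn O U) ≅ Z.obj (∐ fun _ : ℕ => ModSite.unit (O.over U)) :=
    @asIso _ _ _ _ (sigmaComparison Z fun _ : ℕ => ModSite.unit (O.over U)) inferInstance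
  refine ⟨PreservesCokernel.iso Z _ ≪≫ (cokernel.mapIso (away (ModSite.freeOn O U) (θ O U f)) _ E E ?_).symm⟩
  refine Sigma.hom_ext _ _ fun n => ?_
  show Sigma.ι (fun _ : ℕ => ModSite.freeOn O U) n ≫ away _ _ ≫ sigmaComparison Z _ =
    Sigma.ι (fun _ : ℕ => ModSite.freeOn O U) n ≫ sigmaComparison Z _ ≫ Z.map _
  simp [away, DerComp.awayMap, θ, Z, ← Functor.map_comp]

/-- Derived completeness through completeness of Hom groups. -/
theorem subsingleton_iff_compAt (U : C) (f : O.obj.obj (op U)) (K : DerivedCategory (ModSite.Mod O)) :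
    (∀ n : ℤ, Subsingleton (SiteCmp.inD O ((ModSite.extZero O U).obj (DerComp.awayOver O U f)) ⟶ K⟦n⟧)) ↔
      CompAt O U f K := by
  haveI := H10Coh.isGrothendieckAbelian_sheafOfModules (ModSite.ringSh O)
  obtain ⟨i⟩ := exists_iso_telescope O U f
  refine Iff.trans ?_ (subsingleton_iff_comp (ModSite.freeOn O U) (θ O U f) K)
  exact forall_congr' fun n => (((S0 (A := ModSite.Mod O)).mapIso i).homCongr (Iso.refl _)).subsingleton_congr

theorem isDerComp_iff (I : DerComp.IdealSh O) (K : DerivedCategory (ModSite.Mod O)) :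
    DerComp.IsDerComp O I K ↔ ∀ (U : C) (f : O.obj.obj (op U)), f ∈ I.ideal U → CompAt O U f K :=
  forall₂_congr fun U f => forall_congr' fun _ => subsingleton_iff_compAt O U f K

lemma compAt_zero (U : C) (K : DerivedCategory (ModSite.Mod O)) : CompAt O U 0 K := fun n => by
  rw [θ_zero, Functor.map_zero]
  have : precomp (Y := K⟦n⟧) (0 : (S0 (A := ModSite.Mod O)).obj (ModSite.freeOn O U) ⟶ (S0 (A := ModSite.Mod O)).obj (ModSite.freeOn O U)) = 0 :=
    AddMonoidHom.ext fun x => (precomp_apply _ x).trans zero_comp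
  rw [this]
  exact comp_zero_endo

lemma precomp_θ_comm (U : C) (f g : O.obj.obj (op U)) {Y : DerivedCategory (ModSite.Mod O)}
    (y : (S0 (A := ModSite.Mod O)).obj (ModSite.freeOn O U) ⟶ Y) :
    precomp ((S0 (A := ModSite.Mod O)).map (θ O U f)) (precomp ((S0 (A := ModSite.Mod O)).map (θ O U g)) y) =
      precomp ((S0 (A := ModSite.Mod O)).map (θ O U g)) (precomp ((S0 (A := ModSite.Mod O)).map (θ O U f)) y) := by
  show (S0 (A := ModSite.Mod O)).map _ ≫ (S0 (A := ModSite.Mod O)).map _ ≫ y =
    (S0 (A := ModSite.Mod O)).map _ ≫ (S0 (A := ModSite.Mod O)).map _ ≫ y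
  rw [← Functor.map_comp_assoc, ← Functor.map_comp_assoc, ← θ_mul, ← θ_mul, mul_comm]

lemma compAt_add {U : C} {f g : O.obj.obj (op U)} {K : DerivedCategory (ModSite.Mod O)}
    (hf : CompAt O U f K) (hg : CompAt O U g K) : CompAt O U (f + g) K := fun n => by
  have h := (hf n).add (hg n) (precomp_θ_comm O U f g)
  rwa [show precomp ((S0 (A := ModSite.Mod O)).map (θ O U f)) + precomp ((S0 (A := ModSite.Mod O)).map (θ O U g)) =
    precomp (Y := K⟦n⟧) ((S0 (A := ModSite.Mod O)).map (θ O U (f + g))) from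
      AddMonoidHom.ext fun x => by
        rw [AddMonoidHom.add_apply, precomp_apply, precomp_apply, precomp_apply]
        rw [θ_add, Functor.map_add, Preadditive.add_comp]] at h

lemma compAt_mul {U : C} (r : O.obj.obj (op U)) {f : O.obj.obj (op U)} {K : DerivedCategory (ModSite.Mod O)}
    (hf : CompAt O U f K) : CompAt O U (r * f) K := fun n => by
  have h := (hf n).mul _ (precomp_θ_comm O U f r)
  rwa [show (precomp ((S0 (A := ModSite.Mod O)).map (θ O U f))).comp (precomp ((S0 (A := ModSite.Mod O)).map (θ O U r))) =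
    precomp (Y := K⟦n⟧) ((S0 (A := ModSite.Mod O)).map (θ O U (r * f))) from
      AddMonoidHom.ext fun x => by
        rw [AddMonoidHom.comp_apply, precomp_apply, precomp_apply, precomp_apply]
        rw [← Functor.map_comp_assoc, mul_comm, θ_mul]] at h

end Groth.Agent.H16Derived.DerCompLib
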