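import Groth.Agent.H16Derived.DerComp.Push
import Mathlib.CategoryTheory.Adjunction.PartialAdjoint

/-!
# Direct image on derived complete objects has a left adjoint
-/

set_option autoImplicit false
set_option linter.style.haveILetI false

universe u v₁ v₂ u₁ u₂

open CategoryTheory CategoryTheory.Limits

namespace Groth.Agent.H16Derived.DerCompLib

/-- A functor into a full subcategory is a right adjoint if it is so after inclusion. -/
theorem isRightAdjoint_lift {X : Type u₁} [Category.{v₁} X] {Y : Type u₂} [Category.{v₁} Y]
    (P : ObjectProperty Y) (G : X ⥤ Y) (hG : ∀ x, P (G.obj x)) [G.IsRightAdjoint] :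
    (P.lift G hG).IsRightAdjoint := by
  refine Functor.isRightAdjoint_of_leftAdjointObjIsDefined_eq_top (top_le_iff.1 fun y _ => ?_)
  exact Functor.CorepresentableBy.isCorepresentable (X := G.leftAdjoint.obj y.obj)
    { homEquiv := fun {x} => ((Adjunction.ofIsRightAdjoint G).homEquiv y.obj x).trans
        (InducedCategory.homEquiv (X := y) (Y := (P.lift G hG).obj x)).symm
      homEquiv_comp := fun g f => InducedCategory.hom_ext
        ((Adjunction.ofIsRightAdjoint G).homEquiv_naturality_right f g) }

end Groth.Agent.H16Derived.DerCompLib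

namespace Groth.Agent.H16Derived.DerCompLib

attribute [local instance] HasDerivedCategory.standard
attribute [local instance] H15Site.PullKFlat.additive_pull
attribute [local instance 10000] H15Site.SiteInst.hasSheafifySite H15Site.SiteInst.hasWeakSheafifySite

variable {C D : Type u} [SmallCategory C] [SmallCategory D] {J : GrothendieckTopology C}
  {K : GrothendieckTopology D} {O_C : Sheaf J CommRingCat.{u}} {O_D : Sheaf K CommRingCat.{u}}
  (f : ModSite.RMor O_C O_D)

theorem isRightAdjoint_RpushD [SiteCmp.HasRpushD f] : (SiteCmp.RpushD f).IsRightAdjoint := by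
  haveI := H10Coh.isGrothendieckAbelian_sheafOfModules (ModSite.ringSh O_C)
  obtain ⟨L, _, _, -, ⟨adj⟩⟩ := exists_leftAdjoint_natural (G := f.pull) (F := f.push) f.adj
    (H15Site.PullAdapted.pullAdapted f)
  exact adj.isRightAdjoint

theorem isRightAdjoint_lift_RpushD [SiteCmp.HasRpushD f] (I : DerComp.IdealSh O_D) (I' : DerComp.IdealSh O_C)
    (h : ∀ M : DerivedCategory (ModSite.Mod O_C), DerComp.IsDerComp O_C I' M →
      DerComp.IsDerComp O_D I ((SiteCmp.RpushD f).obj M)) :
    ((DerComp.IsDerComp O_D I).lift ((DerComp.IsDerComp O_C I').ι ⋙ SiteCmp.RpushD f)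
      (fun M => h M.obj M.property)).IsRightAdjoint := by
  haveI : ((DerComp.IsDerComp O_C I').ι).IsRightAdjoint := hasDerCompletion O_C I'
  haveI := isRightAdjoint_RpushD f
  exact isRightAdjoint_lift _ _ _

end Groth.Agent.H16Derived.DerCompLib
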