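import Groth.Agent.H16Derived.DerComp.TensorAway
import Groth.Agent.H16Derived.DerComp.SingleRight
import Mathlib.CategoryTheory.Functor.Derived.PointwiseLeftDerived

/-!
# `RHom(O_f, K)` is the derived limit of multiplications by `f`
-/

set_option autoImplicit false
set_option linter.style.haveILetI false

universe u

open CategoryTheory CategoryTheory.Limits Opposite CategoryTheory.Pretriangulated

section

variable {T : Type*} [Category T] [HasShift T ℤ] [Preadditive T] [HasZeroObject T]
  [∀ n : ℤ, (shiftFunctor T n).Additive] [Pretriangulated T]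

/-- Derived limits of one system vanish together. -/
theorem Groth.Agent.H16Derived.DerCompLib.isZero_iff_of_isRlim {K : ℕ → T} (t : ∀ n, K (n + 1) ⟶ K n)
    [HasProduct K] (L L' : T) (h : DCoh.IsRlim K t L) (h' : DCoh.IsRlim K t L') : IsZero L ↔ IsZero L' := by
  obtain ⟨a, c, hT⟩ := h
  obtain ⟨a', c', hT'⟩ := h'
  let e := isoTriangleOfIso₁₂ _ _ (rot_of_distTriang _ hT) (rot_of_distTriang _ hT') (Iso.refl _) (Iso.refl _)
    ((Category.comp_id _).trans (Category.id_comp _).symm)
  let e₃ : L⟦(1 : ℤ)⟧ ≅ L'⟦(1 : ℤ)⟧ := Triangle.π₃.mapIso e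
  have hsh : ∀ X : T, IsZero X ↔ IsZero (X⟦(1 : ℤ)⟧) := fun X =>
    ⟨fun hX => (shiftFunctor _ (1 : ℤ)).map_isZero hX, fun hX =>
      ((shiftFunctor _ (-1 : ℤ)).map_isZero hX).of_iso
        (((shiftFunctorCompIsoId T (1 : ℤ) (-1) (by omega)).app X).symm)⟩
  rw [hsh L, hsh L']
  exact ⟨fun h => h.of_iso e₃.symm, fun h => h.of_iso e₃⟩

end

/-- Derived limits in a derived category vanish together. -/
theorem Groth.Agent.H16Derived.DerCompLib.isZero_iff_of_isRlim_derived {A : Type*} [Category A] [Abelian A]
    [HasDerivedCategory A] {K : ℕ → DerivedCategory A} (t : ∀ n, K (n + 1) ⟶ K n) [HasProduct K]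
    (L L' : DerivedCategory A) (h : DCoh.IsRlim K t L) (h' : DCoh.IsRlim K t L') : IsZero L ↔ IsZero L' :=
  Groth.Agent.H16Derived.DerCompLib.isZero_iff_of_isRlim t L L' h h'

attribute [local instance] HasDerivedCategory.standard

namespace Groth.Agent.H16Derived.DerCompLib

open H15Site H15Site.ModTensor

attribute [local instance 10000] SiteInst.hasSheafifySite SiteInst.hasWeakSheafifySite

variable {C : Type u} [SmallCategory C] {J : GrothendieckTopology C} (O : Sheaf J CommRingCat.{u})

instance countableCoprodMod : HasCountableCoproducts (ModSite.Mod O) := ⟨fun T _ => ModSite.hasColimitsOfShape_discrete O T⟩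

variable [IsGrothendieckAbelian.{u} (ModSite.Mod O)] (s : DerComp.GSec O)

/-- `X ↦ Tot(X ⊗ O_f[0])` is termwise localisation. -/
noncomputable def tensorCxAwayIso :
    (Loc s).mapHomologicalComplex (ComplexShape.up ℤ) ≅
      (ModSite.tensorCx O).flip.obj
        ((CochainComplex.singleFunctor (ModSite.Mod O) 0).obj (DerComp.locAway s (ModSite.unit O))) :=
  haveI : ∀ b, ((ModSite.tensorBi O).flip.obj b).Additive := fun b => additive_tR b
  NatIso.mapHomologicalComplex
      (locTensor O s ≪≫ tLIso (DerComp.locAway s (ModSite.unit O))) (ComplexShape.up ℤ) ≪≫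
    singleRightIso (ModSite.tensorBi O) (DerComp.locAway s (ModSite.unit O))

variable [ModSite.HasLTensorCx ((CochainComplex.singleFunctor (ModSite.Mod O) 0).obj (DerComp.locAway s (ModSite.unit O)))]

theorem nonempty_lTensorAwayIso [PreservesFiniteLimits (Loc (A := ModSite.Mod O) s)]
    [PreservesFiniteColimits (Loc (A := ModSite.Mod O) s)] :
    Nonempty (ModSite.LTensorCx ((CochainComplex.singleFunctor (ModSite.Mod O) 0).obj
      (DerComp.locAway s (ModSite.unit O))) ≅ (Loc (A := ModSite.Mod O) s).mapDerivedCategory) := by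
  let P := (CochainComplex.singleFunctor (ModSite.Mod O) 0).obj (DerComp.locAway s (ModSite.unit O))
  let W := HomologicalComplex.quasiIso (ModSite.Mod O) (ComplexShape.up ℤ)
  let G := (Loc (A := ModSite.Mod O) s).mapDerivedCategory
  let e : DerivedCategory.Q ⋙ G ≅ ModSite.tensorCxQ P :=
    (Loc (A := ModSite.Mod O) s).mapDerivedCategoryFactors ≪≫
      Functor.isoWhiskerRight (tensorCxAwayIso O s) DerivedCategory.Q
  haveI : G.IsLeftDerivedFunctor e.hom W := Functor.isLeftDerivedFunctor_of_inverts W G e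
  exact ⟨((ModSite.LTensorCx P).leftDerivedUnique G e.hom
    ((ModSite.tensorCxQ P).totalLeftDerivedCounit DerivedCategory.Q W) W).symm⟩

theorem isT_rhom_away [DerComp.HasRHom ((CochainComplex.singleFunctor (ModSite.Mod O) 0).obj (DerComp.locAway s (ModSite.unit O)))]
    (K : DerivedCategory (ModSite.Mod O)) [HasProduct fun _ : ℕ => K] :
    DerComp.IsT s K ((DerComp.RHom ((CochainComplex.singleFunctor (ModSite.Mod O) 0).obj
      (DerComp.locAway s (ModSite.unit O)))).obj K) := by
  haveI := preservesFiniteLimits_Loc (A := ModSite.Mod O) s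
  haveI := preservesFiniteColimits_Loc (A := ModSite.Mod O) s
  obtain ⟨ν⟩ := nonempty_lTensorAwayIso O s
  exact exists_rlim_of_adj s (DerComp.RHomAdj _) ν K

theorem isZero_iff_of_isT (K L L' : DerivedCategory (ModSite.Mod O)) [HasProduct fun _ : ℕ => K]
    (h : DerComp.IsT s K L) (h' : DerComp.IsT s K L') : IsZero L ↔ IsZero L' :=
  isZero_iff_of_isRlim_derived (A := ModSite.Mod O) (K := fun _ => K) (fun _ => s • 𝟙 K) L L' h h'

end Groth.Agent.H16Derived.DerCompLib
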