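import Groth.Agent.H16Derived.DerComp.Free
import Groth.Agent.H15Site.ModOver

/-!
# The restriction of a free module to a localised site with a product
-/

set_option autoImplicit false
set_option linter.style.haveILetI false

universe u

open CategoryTheory CategoryTheory.Limits Opposite

namespace Groth.Agent.H16Derived.DerCompLib

open H15Site H15Site.ModTensor H15Site.SiteGenInst H15Site.ModOver

attribute [local instance 10000] SiteInst.hasSheafifySite SiteInst.hasWeakSheafifySite

variable {C : Type u} [SmallCategory C] {J : GrothendieckTopology C} (O : Sheaf J CommRingCat.{u})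
  {U V P : C} (p : P ⟶ V) (q : P ⟶ U)

/-- The presheaf of modules free on `V`. -/
noncomputable abbrev preFree (V : C) : PMod O := (PresheafOfModules.free (ModSite.ringSh O).obj).obj (yoneda.obj V)

/-- The generator restricted to the product. -/
noncomputable def genP : ((rp O U).obj (preFree O V)).obj (op (Over.mk q)) :=
  ModuleCat.freeMk (show (yoneda.obj V).obj (op P) from p)

variable (hP : IsLimit (BinaryFan.mk p q))

include hP in
lemma bijective_eval (N : PMod (O.over U)) :
    Function.Bijective fun x : (rp O U).obj (preFree O V) ⟶ N => (x.app (op (Over.mk q))).hom (genP O p q) := by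
  have hl : ∀ (W : Over U) (a : W.left ⟶ V), ∃! h : W ⟶ Over.mk q, h.left ≫ p = a := by
    intro W a
    obtain ⟨l, hl₁, hl₂⟩ := BinaryFan.IsLimit.lift' hP a W.hom
    refine ⟨Over.homMk l hl₂, hl₁, fun h hh => Over.OverMorphism.ext ?_⟩
    refine BinaryFan.IsLimit.hom_ext hP ?_ ?_
    · exact hh.trans hl₁.symm
    · exact (Over.w h).trans hl₂.symm
  let M := (rp O U).obj (preFree O V)
  have hgen : ∀ (W : Over U) (h : W ⟶ Over.mk q),
      rs M h.op (genP O p q) = ModuleCat.freeMk (show (yoneda.obj V).obj (op W.left) from h.left ≫ p) :=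
    fun W h => ModuleCat.freeDesc_apply _ _
  refine ⟨fun x y hxy => ?_, fun n => ?_⟩
  · refine PresheafOfModules.hom_ext fun W => ModuleCat.free_hom_ext (fun a => ?_)
    obtain ⟨h, hh, -⟩ := hl W.unop a
    obtain rfl : h.left ≫ p = a := hh
    exact (congrArg (x.app W).hom (hgen W.unop h).symm).trans ((rs_app x h.op _).trans
      ((congrArg (rs N h.op) hxy).trans ((rs_app y h.op _).symm.trans (congrArg (y.app W).hom (hgen W.unop h)))))
  · let g (W : Over U) (a : W.left ⟶ V) : W ⟶ Over.mk q := (hl W a).choose
    have hg : ∀ W a, (g W a).left ≫ p = a := fun W a => (hl W a).choose_spec.1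
    have huniq : ∀ W a h, h.left ≫ p = a → h = g W a := fun W a h hh => (hl W a).choose_spec.2 h hh
    let xa (W : (Over U)ᵒᵖ) : M.obj W ⟶ N.obj W := ModuleCat.freeDesc (↾fun a => rs N (g W.unop a).op n)
    have hxa : ∀ (W : (Over U)ᵒᵖ) (a : W.unop.left ⟶ V),
        (xa W).hom (ModuleCat.freeMk (show (yoneda.obj V).obj (op W.unop.left) from a)) = rs N (g W.unop a).op n :=
      fun W a => ModuleCat.freeDesc_apply _ _
    have hrs : ∀ {W W' : (Over U)ᵒᵖ} (k : W ⟶ W') (a : W.unop.left ⟶ V),
        rs M k (ModuleCat.freeMk (show (yoneda.obj V).obj (op W.unop.left) from a)) =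
          ModuleCat.freeMk (show (yoneda.obj V).obj (op W'.unop.left) from k.unop.left ≫ a) :=
      fun {W W'} k a => ModuleCat.freeDesc_apply _ _
    have hcomm : ∀ {W W' : (Over U)ᵒᵖ} (k : W ⟶ W') (a : W.unop.left ⟶ V),
        g W'.unop (k.unop.left ≫ a) = k.unop ≫ g W.unop a := fun {W W'} k a =>
      (huniq W'.unop (k.unop.left ≫ a) (k.unop ≫ g W.unop a)
        ((congrArg (· ≫ p) (Over.comp_left _ _ _ _ _)).trans
          ((Category.assoc _ _ _).trans (congrArg (k.unop.left ≫ ·) (hg W.unop a))))).symm
    let x : M ⟶ N :=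
      { app := xa
        naturality := fun {W W'} k => ModuleCat.free_hom_ext (fun a => by
          show (xa W').hom (rs M k (ModuleCat.freeMk _)) = rs N k ((xa W).hom (ModuleCat.freeMk _))
          refine (congrArg (xa W').hom (hrs k a)).trans ((hxa W' _).trans ?_)
          refine Eq.trans ?_ (congrArg (rs N k) (hxa W a)).symm
          rw [hcomm, rs_rs]
          rfl) }
    refine ⟨x, (hxa (op (Over.mk q)) p).trans ?_⟩
    show rs N (g (Over.mk q) p).op n = n
    rw [← huniq (Over.mk q) p (𝟙 _) (Category.id_comp _), op_id, rs_id]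

/-- The generator of the restricted free sheaf. -/
noncomputable def genRestr : ((ModSite.restr O U).obj ((freeModFunctor O).obj V)).val.obj (op (Over.mk q)) :=
  (((rp O U).map ((adj O).unit.app (preFree O V))).app (op (Over.mk q))).hom (genP O p q)

include hP in
lemma bijective_evalSh (F : ModSite.Mod (O.over U)) :
    Function.Bijective fun x : (ModSite.restr O U).obj ((freeModFunctor O).obj V) ⟶ F =>
      (x.val.app (op (Over.mk q))).hom (genRestr O p q) := by
  let i := (restrASh O U).app (preFree O V)
  let E := (Iso.homCongr i (Iso.refl F)).trans ((adj (O.over U)).homEquiv _ F)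
  have hu : (adj (O.over U)).unit.app ((rp O U).obj (preFree O V)) ≫ (forg (O.over U)).map i.inv =
      (rp O U).map ((adj O).unit.app (preFree O V)) := by
    show (adj (O.over U)).unit.app _ ≫ (forg (O.over U)).map (_ ≫ _) = _
    rw [Functor.map_comp]
    refine (Category.assoc _ _ _).symm.trans ((congrArg (· ≫ _)
      ((adj (O.over U)).unit.naturality ((rp O U).map ((adj O).unit.app (preFree O V)))).symm).trans ?_)
    refine (Category.assoc _ _ _).trans ((congrArg (_ ≫ ·) ?_).trans (Category.comp_id _))
    exact (adj (O.over U)).right_triangle_components ((ModSite.restr O U).obj ((aSh O).obj (preFree O V)))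
  have : (fun x : (ModSite.restr O U).obj ((freeModFunctor O).obj V) ⟶ F =>
      (x.val.app (op (Over.mk q))).hom (genRestr O p q)) =
      (fun y => (y.app (op (Over.mk q))).hom (genP O p q)) ∘ E := by
    funext x
    have hE : E x = (rp O U).map ((adj O).unit.app (preFree O V)) ≫ (forg (O.over U)).map x := by
      show (adj (O.over U)).homEquiv _ F (i.inv ≫ x ≫ 𝟙 F) = _
      rw [Category.comp_id, Adjunction.homEquiv_unit, Functor.map_comp]
      exact (Category.assoc _ _ _).symm.trans (congrArg (· ≫ _) hu)
    show _ = ((E x).app _).hom _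
    rw [hE]
    rfl
  rw [this]
  exact (bijective_eval O p q hP _).comp E.bijective

/-- The restriction of a free module is free on the product. -/
noncomputable def freeEndoRestr (f : O.obj.obj (op V)) :
    FreeEndo (O.over U) (Over.mk q) (show (O.over U).obj.obj (op (Over.mk q)) from (O.obj.map p.op).hom f)
      ((ModSite.restr O U).obj ((freeModFunctor O).obj V))
      ((ModSite.restr O U).map ((eMod O V _).symm (smulSect O f (eMod O V _ (𝟙 _))))) where
  e F := Equiv.ofBijective _ (bijective_evalSh O p q hP F)
  nat _ _ := rfl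
  endo {F} x := by
    let G := (freeModFunctor O).obj V
    let γ : ((forg O).obj G).obj (op V) := eMod O V G (𝟙 G)
    let φ : G ⟶ G := (eMod O V G).symm (smulSect O f (eMod O V G (𝟙 G)))
    have hφ : (((forg O).map φ).app (op V)).hom γ = smulSect O f (F := G) γ := by
      refine ((eMod_naturality_right O (𝟙 G) φ).symm.trans ?_)
      rw [Category.id_comp, Equiv.apply_symm_apply]
    have hγ : γ = (((adj O).unit.app (preFree O V)).app (op V)).hom (ModuleCat.freeMk (𝟙 V)) := by
      refine (congrArg yonedaEquiv ((freeModAdj O).homEquiv_id (yoneda.obj V))).trans ?_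
      rfl
    have hg : genRestr O p q = rs ((forg O).obj G) p.op γ := by
      refine Eq.trans ?_ (congrArg (rs ((forg O).obj G) p.op) hγ).symm
      refine Eq.trans ?_ (rs_app ((adj O).unit.app (preFree O V)) p.op (ModuleCat.freeMk (𝟙 V)))
      refine congrArg (((adj O).unit.app (preFree O V)).app (op P)).hom ?_
      have h₁ : rs (preFree O V) p.op (ModuleCat.freeMk (show (yoneda.obj V).obj (op V) from 𝟙 V)) =
          ModuleCat.freeMk (show (yoneda.obj V).obj (op P) from p ≫ 𝟙 V) := ModuleCat.freeDesc_apply _ _
      exact (congrArg ModuleCat.freeMk (Category.comp_id p).symm).trans h₁.symm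
    have h₂ : (((forg O).map φ).app (op P)).hom (genRestr O p q) =
        (show (ModSite.ringSh O).obj.obj (op P) from (O.obj.map p.op).hom f) • (show G.val.obj (op P) from genRestr O p q) :=
      (congrArg (((forg O).map φ).app (op P)).hom hg).trans ((rs_app ((forg O).map φ) p.op γ).trans
        ((congrArg (rs ((forg O).obj G) p.op) hφ).trans ((rs_smul ((forg O).obj G) p.op f γ).trans
          (congrArg (_ • ·) hg.symm))))
    exact (congrArg (x.val.app (op (Over.mk q))).hom h₂).trans ((x.val.app (op (Over.mk q))).hom.map_smul _ _)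

end Groth.Agent.H16Derived.DerCompLib
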