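import Groth.Agent.H16Derived.DerComp.LocFun

/-!
# The right adjoint of the derived localisation is a derived limit
-/

set_option autoImplicit false
set_option linter.style.haveILetI false
set_option linter.unusedSectionVars false

universe w v u r

open CategoryTheory CategoryTheory.Limits CategoryTheory.Pretriangulated

namespace Groth.Agent.H16Derived.DerCompLib

variable {R : Type r} [CommRing R] {A : Type u} [Category.{v} A] [Abelian A] [IsGrothendieckAbelian.{v} A]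
  [Linear R A] (r₀ : R) [HasDerivedCategory.{w} A]

lemma exists_injective_model (K : DerivedCategory A) :
    ∃ (I : CochainComplex A ℤ), I.IsKInjective ∧ (∀ n, Injective (I.X n)) ∧
      Nonempty (DerivedCategory.Q.obj I ≅ K) := by
  obtain ⟨N, j, h⟩ := KInjRes.exists_resolution_functor (A := A)
  obtain ⟨_, h₂, h₃, h₄⟩ := h (DerivedCategory.Q.objPreimage K)
  exact ⟨_, h₃, h₄, ⟨(asIso (DerivedCategory.Q.map (j.app (DerivedCategory.Q.objPreimage K)))).symm ≪≫
    DerivedCategory.Q.objObjPreimageIso K⟩⟩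

lemma nonempty_isLimit_Q_fan {T : Type} {I : CochainComplex A ℤ} [I.IsKInjective]
    (c : Fan fun _ : T => I) (hc : IsLimit c) :
    Nonempty (IsLimit (Fan.mk (DerivedCategory.Q.obj c.pt) fun i => DerivedCategory.Q.map (c.proj i) :
      Fan fun _ : T => DerivedCategory.Q.obj I)) := by
  haveI : CochainComplex.IsKInjective c.pt := KInjRes.isKInjective_of_fan c hc fun _ => ‹_›
  have hex : ∀ s : Fan fun _ : T => DerivedCategory.Q.obj I, ∃ m : s.pt ⟶ DerivedCategory.Q.obj c.pt,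
      ∀ i, m ≫ DerivedCategory.Q.map (c.proj i) = s.proj i := by
    intro s
    let e := DerivedCategory.Q.objObjPreimageIso s.pt
    choose g hg using fun i => KInjRes.exists_Q_map_eq (e.hom ≫ s.proj i)
    refine ⟨e.inv ≫ DerivedCategory.Q.map (Fan.IsLimit.lift hc g), fun i => ?_⟩
    rw [Category.assoc, ← Functor.map_comp, Fan.IsLimit.fac, hg, Iso.inv_hom_id_assoc]
  refine ⟨Fan.IsLimit.mk _ (fun s => (hex s).choose) (fun s i => (hex s).choose_spec i) fun s m hm => ?_⟩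
  let e := DerivedCategory.Q.objObjPreimageIso s.pt
  rw [← cancel_epi e.hom]
  obtain ⟨g₁, hg₁⟩ := KInjRes.exists_Q_map_eq (e.hom ≫ m)
  obtain ⟨g₂, hg₂⟩ := KInjRes.exists_Q_map_eq (e.hom ≫ (hex s).choose)
  have hh := KInjRes.nonempty_homotopy_zero_of_fan c hc (g₁ - g₂) fun i => by
    rw [Preadditive.sub_comp]
    apply KInjRes.nonempty_homotopy_of_Q_map_eq
    rw [Functor.map_comp, Functor.map_comp, hg₁, hg₂, Category.assoc, Category.assoc]
    exact congrArg (e.hom ≫ ·) ((hm i).trans ((hex s).choose_spec i).symm)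
  rw [← hg₁, ← hg₂, ← sub_eq_zero, ← Functor.map_sub, DerivedCategory.Q_map_eq_of_homotopy A hh.some,
    Functor.map_zero]

/-- `F ↦ ∏ F`. -/
noncomputable def prodFun : A ⥤ A where
  obj F := ∏ᶜ fun _ : ℕ => F
  map f := pMap f
  map_id X := pMap_id X
  map_comp f g := pMap_comp f g

instance : (prodFun (A := A)).Additive where
  map_add {X Y f g} := pMap_add f g

/-- Projection. -/
noncomputable def prodProj (n : ℕ) : prodFun (A := A) ⟶ 𝟭 A where
  app F := Pi.π (fun _ : ℕ => F) n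
  naturality {X Y} f := pMap_π f n

/-- The limit map. -/
noncomputable def limNat : prodFun (A := A) ⟶ prodFun where
  app F := limMap' r₀ F
  naturality {X Y} f := (limMap'_comm r₀ f).symm

/-- The inclusion of the limit. -/
noncomputable def limIncl : Tfun (A := A) r₀ ⟶ prodFun where
  app F := kernel.ι (limMap' r₀ F)
  naturality {X Y} f := Tfun_map_ι r₀ f

theorem exists_triangle (I : CochainComplex A ℤ) [I.IsKInjective] (hI : ∀ n, Injective (I.X n))
    {K : DerivedCategory A} (e : DerivedCategory.Q.obj I ≅ K) [HasProduct fun _ : ℕ => K] :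
    ∃ (a : DerivedCategory.Q.obj (((Tfun r₀).mapHomologicalComplex (ComplexShape.up ℤ)).obj I) ⟶ ∏ᶜ fun _ : ℕ => K)
      (c : (∏ᶜ fun _ : ℕ => K) ⟶ (DerivedCategory.Q.obj (((Tfun r₀).mapHomologicalComplex (ComplexShape.up ℤ)).obj I))⟦(1 : ℤ)⟧),
      Triangle.mk a (rlimMap r₀ K) c ∈ distTriang (DerivedCategory A) := by
  let cs := ComplexShape.up ℤ
  let P := ((prodFun (A := A)).mapHomologicalComplex cs).obj I
  let p (n : ℕ) : P ⟶ I :=
    { f := fun i => Pi.π (fun _ : ℕ => I.X i) n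
      comm' := fun i j _ => ((prodProj (A := A) n).naturality (I.d i j)).symm }
  let m : P ⟶ P := (NatTrans.mapHomologicalComplex (limNat r₀) cs).app I
  let ι : ((Tfun r₀).mapHomologicalComplex cs).obj I ⟶ P := (NatTrans.mapHomologicalComplex (limIncl r₀) cs).app I
  have hp : ∀ n i, (p n).f i = Pi.π (fun _ : ℕ => I.X i) n := fun _ _ => rfl
  let c : Fan fun _ : ℕ => I := Fan.mk P p
  have hc : IsLimit c := HomologicalComplex.isLimitOfEval _ _ fun i =>
    (isLimitMapConeFanMkEquiv (HomologicalComplex.eval A cs i) _ p).symm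
      (IsLimit.ofIsoLimit (productIsProduct fun _ : ℕ => I.X i) (Fan.ext (Iso.refl _) fun n => by
        exact (Category.id_comp _).symm))
  obtain ⟨hQ⟩ := nonempty_isLimit_Q_fan c hc
  let θ : DerivedCategory.Q.obj P ⟶ ∏ᶜ fun _ : ℕ => K :=
    Pi.lift fun n => DerivedCategory.Q.map (p n) ≫ e.hom
  haveI : IsIso θ := by
    refine ⟨Fan.IsLimit.lift hQ (fun n => Pi.π (fun _ : ℕ => K) n ≫ e.inv), ?_, ?_⟩
    · refine Fan.IsLimit.hom_ext hQ _ _ fun n => ?_
      rw [Category.assoc, Category.id_comp]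
      refine (congrArg (θ ≫ ·) (Fan.IsLimit.fac hQ _ n)).trans ?_
      show θ ≫ Pi.π (fun _ : ℕ => K) n ≫ e.inv = DerivedCategory.Q.map (p n)
      rw [← Category.assoc, show θ ≫ Pi.π (fun _ : ℕ => K) n = DerivedCategory.Q.map (p n) ≫ e.hom from Pi.lift_π _ _,
        Category.assoc, Iso.hom_inv_id, Category.comp_id]
    · refine Pi.hom_ext _ _ fun n => ?_
      have h := Fan.IsLimit.fac hQ (fun n => Pi.π (fun _ : ℕ => K) n ≫ e.inv) n
      rw [Category.assoc, Category.id_comp, show θ ≫ Pi.π (fun _ : ℕ => K) n = DerivedCategory.Q.map (p n) ≫ e.hom from Pi.lift_π _ _]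
      refine (Category.assoc _ _ _).symm.trans ((congrArg (· ≫ e.hom) h).trans ?_)
      simp
  have hmn : ∀ n, m ≫ p n = p n - p (n + 1) ≫ (r₀ • 𝟙 I) := fun n =>
    HomologicalComplex.hom_ext _ _ fun i => by
      show limMap' r₀ (I.X i) ≫ Pi.π (fun _ : ℕ => I.X i) n =
        Pi.π (fun _ : ℕ => I.X i) n - Pi.π (fun _ : ℕ => I.X i) (n + 1) ≫ (r₀ • 𝟙 (I.X i))
      exact Pi.lift_π _ _
  have hθ : ∀ n, θ ≫ Pi.π (fun _ : ℕ => K) n = DerivedCategory.Q.map (p n) ≫ e.hom := fun n => Pi.lift_π _ _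
  have hm : θ ≫ rlimMap r₀ K = DerivedCategory.Q.map m ≫ θ := by
    refine Pi.hom_ext _ _ fun n => ?_
    rw [Category.assoc, Category.assoc, show rlimMap r₀ K ≫ Pi.π (fun _ : ℕ => K) n =
      Pi.π (fun _ : ℕ => K) n - Pi.π (fun _ : ℕ => K) (n + 1) ≫ (r₀ • 𝟙 K) from Pi.lift_π _ _,
      Preadditive.comp_sub, reassoc_of% (hθ (n + 1)), hθ, ← Functor.map_comp_assoc, hmn, Functor.map_sub,
      Functor.map_comp, Functor.map_smul, CategoryTheory.Functor.map_id, Preadditive.sub_comp, Category.assoc]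
    simp
  let S : ShortComplex (CochainComplex A ℤ) := ShortComplex.mk ι m (HomologicalComplex.hom_ext _ _ fun i =>
    show kernel.ι (limMap' r₀ (I.X i)) ≫ limMap' r₀ (I.X i) = 0 from kernel.condition _)
  have hS : S.ShortExact := HomologicalComplex.shortExact_of_degreewise_shortExact _ fun i => by
    haveI := hI i
    haveI := epi_limMap' r₀ (I.X i)
    exact ShortComplex.ShortExact.mk'
      (ShortComplex.exact_of_f_is_kernel _ (kernelIsKernel (limMap' r₀ (I.X i))))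
      (inferInstanceAs (Mono (kernel.ι (limMap' r₀ (I.X i)))))
      (inferInstanceAs (Epi (limMap' r₀ (I.X i))))
  let T := DerivedCategory.triangleOfSES hS
  refine ⟨DerivedCategory.Q.map ι ≫ θ, inv θ ≫ T.mor₃, ?_⟩
  refine isomorphic_distinguished T (DerivedCategory.triangleOfSES_distinguished hS) _ ?_
  refine Triangle.isoMk _ _ (Iso.refl _) (asIso θ).symm (asIso θ).symm ?_ ?_ ?_
  · show (DerivedCategory.Q.map ι ≫ θ) ≫ inv θ = 𝟙 _ ≫ DerivedCategory.Q.map ι
    simp
  · show rlimMap r₀ K ≫ inv θ = inv θ ≫ DerivedCategory.Q.map m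
    rw [IsIso.eq_inv_comp, ← Category.assoc, hm, Category.assoc, IsIso.hom_inv_id, Category.comp_id]
  · show (inv θ ≫ T.mor₃) ≫ (𝟙 _)⟦(1 : ℤ)⟧' = inv θ ≫ T.mor₃
    simp

/-- A right adjoint of the derived localisation computes derived limits. -/
theorem exists_rlim_of_adj {Φ : DerivedCategory A ⥤ DerivedCategory A} {Rr : DerivedCategory A ⥤ DerivedCategory A}
    (hadj : Φ ⊣ Rr) [PreservesFiniteLimits (Loc (A := A) r₀)] [PreservesFiniteColimits (Loc (A := A) r₀)]
    (ν : Φ ≅ (Loc (A := A) r₀).mapDerivedCategory) (K : DerivedCategory A) [HasProduct fun _ : ℕ => K] :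
    ∃ (a : Rr.obj K ⟶ ∏ᶜ fun _ : ℕ => K) (c : (∏ᶜ fun _ : ℕ => K) ⟶ (Rr.obj K)⟦(1 : ℤ)⟧),
      Triangle.mk a (rlimMap r₀ K) c ∈ distTriang (DerivedCategory A) := by
  haveI := ExactRightAdj.hasPointwise (B := A) (A := A) (F := Tfun (A := A) r₀)
  obtain ⟨I, hI, hIn, ⟨e⟩⟩ := exists_injective_model K
  let adj' := ExactRightAdj.adjD (locAdj (A := A) r₀)
  haveI := ExactRightAdj.isIso_β (F := Tfun (A := A) r₀) I
  let RF := ExactRightAdj.RF (Tfun (A := A) r₀)
  let ε : Rr.obj K ≅ DerivedCategory.Q.obj (((Tfun r₀).mapHomologicalComplex (ComplexShape.up ℤ)).obj I) :=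
    ((hadj.ofNatIsoLeft ν).rightAdjointUniq adj').app K ≪≫ RF.mapIso e.symm ≪≫
      RF.mapIso ((DerivedCategory.quotientCompQhIso A).app I).symm ≪≫
      (asIso ((ExactRightAdj.β (Tfun (A := A) r₀)).app ((HomotopyCategory.quotient _ _).obj I))).symm ≪≫
      DerivedCategory.Qh.mapIso (((Tfun r₀).mapHomotopyCategoryFactors (ComplexShape.up ℤ)).app I) ≪≫
      (DerivedCategory.quotientCompQhIso A).app _
  obtain ⟨a, c, hT⟩ := exists_triangle r₀ I hIn e
  refine ⟨ε.hom ≫ a, c ≫ ε.inv⟦(1 : ℤ)⟧', isomorphic_distinguished _ hT _ ?_⟩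
  refine Triangle.isoMk _ _ ε (Iso.refl _) (Iso.refl _) ?_ ?_ ?_
  · show (ε.hom ≫ a) ≫ 𝟙 _ = ε.hom ≫ a
    simp
  · show rlimMap r₀ K ≫ 𝟙 _ = 𝟙 _ ≫ rlimMap r₀ K
    simp
  · show (c ≫ ε.inv⟦(1 : ℤ)⟧') ≫ ε.hom⟦(1 : ℤ)⟧' = 𝟙 _ ≫ c
    simp [← Functor.map_comp]

end Groth.Agent.H16Derived.DerCompLib
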